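import Cfsg.Agent.Lib.AbPrincipal.NineStar
import Cfsg.Agent.Lib.Blocks.SecondMain
import Cfsg.Agent.Lib.Blocks.Two
import Cfsg.Agent.Lib.CharTheory.More
import Cfsg.Agent.Lib.CharTheory.Integral
import Cfsg.Agent.Lib.PSolvable
import Cfsg.Agent.Lib.Blocks.Brauer

/-!
# Constant difference between the degree and a value on the principal 2-block: first consequences
-/

namespace CfsgLib.ConstDiff

open Cfsg CfsgLib.CharTheory CfsgLib.Blocks
open scoped ComplexConjugate

set_option linter.unusedVariables false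
set_option linter.style.haveILetI false
set_option linter.unusedSectionVars false

universe u

variable {M : Ideal AlgInt} {G : Type u} [Group G] [Fintype G]

/-- The difference between the degree and the value at `u` is `k`. -/
def Const (M : Ideal AlgInt) (u : G) (k : ℂ) : Prop :=
  ∀ χ : IrrCharacter G, χ ∈ principalBlock M G → (χ : G → ℂ) ≠ (fun _ => 1) →
    (χ : G → ℂ) 1 - (χ : G → ℂ) u = k

/-- The sum over the elements of odd order. -/
noncomputable def oddSum (χ : IrrCharacter G) : ℂ := ∑ g, regFn 2 (χ : G → ℂ) g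

theorem ne_one_iff {χ : IrrCharacter G} : (χ : G → ℂ) ≠ (fun _ => 1) ↔ χ ≠ oneIrr G := by
  rw [Ne, Ne, not_iff_not]
  exact ⟨fun h => Subtype.ext h, fun h => h ▸ rfl⟩

theorem pPart_self {g : G} (h : ∃ k, orderOf g = 2 ^ k) : IsPPart 2 g g :=
  ⟨1, mul_one g, Commute.one_right g, h, by rw [orderOf_one]; norm_num⟩

theorem pPart_one_of_odd {g : G} (h : ¬ 2 ∣ orderOf g) : IsPPart 2 g 1 :=
  ⟨g, one_mul g, Commute.one_left g, ⟨0, by simp⟩, h⟩

/-- The common kernel of the principal block has odd order. -/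
theorem mem_core_of_kernel (hM : IsPModular 2 M) {u : G}
    (h : ∀ χ ∈ principalBlock M G, (χ : G → ℂ) u = (χ : G → ℂ) 1) : u ∈ pPrimeCore 2 G := by
  classical
  haveI : Fact (Nat.Prime 2) := ⟨Nat.prime_two⟩
  let K : Subgroup G := ⨅ χ : bset (principalBlock M G),
    charKernel ((χ : IrrCharacter G) : G → ℂ) (isCharacter_of_irr χ.1.2)
  have hmem : ∀ g : G, g ∈ K ↔ ∀ χ ∈ principalBlock M G, (χ : G → ℂ) g = (χ : G → ℂ) 1 := by
    intro g
    rw [Subgroup.mem_iInf]
    exact ⟨fun hg χ hχ => (mem_charKernel _ g).1 (hg ⟨χ, mem_bset.2 hχ⟩),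
      fun hg χ => (mem_charKernel _ g).2 (hg χ.1 (mem_bset.1 χ.2))⟩
  haveI hKn : K.Normal := ⟨fun g hg t => (hmem _).2 fun χ hχ => by
    rw [irr_isClassFun χ, (hmem g).1 hg χ hχ]⟩
  have hodd : ¬ 2 ∣ Nat.card K := by
    intro hd
    obtain ⟨z, hz⟩ := exists_prime_orderOf_dvd_card' 2 hd
    rw [← Subgroup.orderOf_coe] at hz
    have h0 := block_orth hM (principalBlock_isPBlock (G := G)) (g := (z : G)) (h := 1)
      (pPart_self ⟨1, by rw [hz, pow_one]⟩) (pPart_one_of_odd (by rw [orderOf_one]; norm_num))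
      (fun hc => by
        rw [isConj_one_left.1 hc, orderOf_one] at hz
        norm_num at hz)
    have h1 : ((∑ χ ∈ bset (principalBlock M G), charDegree (χ : G → ℂ) * charDegree (χ : G → ℂ) : ℕ) : ℂ)
        = 0 := by
      rw [← h0, Nat.cast_sum]
      refine Finset.sum_congr rfl fun χ hχ => ?_
      rw [Nat.cast_mul, irr_charDegree_cast, inv_one, (hmem _).1 z.2 χ (mem_bset.1 hχ)]
    rw [Nat.cast_eq_zero, Finset.sum_eq_zero_iff] at h1
    have := h1 (oneIrr G) (mem_bset.2 (oneIrr_mem hM))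
    exact (Nat.mul_pos (irr_charDegree_pos (oneIrr G)) (irr_charDegree_pos (oneIrr G))).ne' this
  have hle : K ≤ pPrimeCore 2 G := by
    refine le_sSup ⟨hKn, ?_⟩
    exact (Nat.prime_two.coprime_iff_not_dvd.2 hodd).symm
  exact hle ((hmem u).2 h)

theorem res_irr_two_elt (hM : IsPModular 2 M) (χ : IrrCharacter G) {z : G}
    (hz : ∃ k, orderOf z = 2 ^ k) : res hM ((χ : G → ℂ) z) = res hM ((χ : G → ℂ) 1) := by
  obtain ⟨k, hk⟩ := hz
  conv_lhs => rw [← mul_one z]
  exact irr_res_pPart hM χ (Commute.one_right z) hk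

/-- The values of the principal block at a nontrivial 2-element sum to an even number. -/
theorem res_sum_two_elt (hM : IsPModular 2 M) {g : G} (hg : ∃ k, orderOf g = 2 ^ k) (hg1 : g ≠ 1) :
    res hM (∑ χ ∈ bset (principalBlock M G), (χ : G → ℂ) g) = 0 ∧
      res hM (∑ χ ∈ bset (principalBlock M G), (χ : G → ℂ) 1) = 0 := by
  classical
  haveI := res_isDomain hM
  haveI := res_charP hM
  have h0 := block_orth hM (principalBlock_isPBlock (G := G)) (g := (1 : G)) (h := g)
    (pPart_one_of_odd (by rw [orderOf_one]; norm_num)) (pPart_self hg)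
    (fun hc => hg1 (isConj_one_right.1 hc))
  have hg' : ∃ k, orderOf g⁻¹ = 2 ^ k := by rwa [orderOf_inv]
  have h1 : res hM (∑ χ ∈ bset (principalBlock M G), (χ : G → ℂ) 1) = 0 := by
    have h2 : res hM (∑ χ ∈ bset (principalBlock M G), (χ : G → ℂ) 1 * (χ : G → ℂ) g⁻¹) = 0 := by
      rw [h0, res_zero]
    rw [res_sum hM fun χ _ => (loc hM).mul_mem (memRing_irr hM χ 1) (memRing_irr hM χ g⁻¹),
      Finset.sum_congr rfl fun (χ : IrrCharacter G) _ =>
        show res hM ((χ : G → ℂ) 1 * (χ : G → ℂ) g⁻¹) = (res hM ((χ : G → ℂ) 1)) ^ 2 by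
        rw [res_mul hM (memRing_irr hM χ 1) (memRing_irr hM χ g⁻¹), res_irr_two_elt hM χ hg',
          pow_two], ← CharTwo.sum_sq] at h2
    rw [res_sum hM fun χ _ => memRing_irr hM χ 1]
    exact pow_eq_zero_iff two_ne_zero |>.1 h2
  refine ⟨?_, h1⟩
  rw [res_sum hM fun χ _ => memRing_irr hM χ g, Finset.sum_congr rfl fun χ _ => res_irr_two_elt hM χ hg,
    ← res_sum hM fun χ _ => memRing_irr hM χ 1, h1]

section hyp

variable (hM : IsPModular 2 M) {u : G} {k : ℂ} (hc : Const M u k) (hk : k ≠ 0)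

include hM hc hk

/-- The nontrivial 2-elements are conjugate to the 2-part of `u`. -/
theorem isConj_part {s : G} (hs : IsPPart 2 u s) {g : G} (hg : ∃ k, orderOf g = 2 ^ k) (hg1 : g ≠ 1) :
    IsConj g s := by
  classical
  haveI := res_isDomain hM
  by_contra hne
  set B := principalBlock M G with hB
  have hBp : IsPBlock M B := principalBlock_isPBlock
  have h1 := block_orth hM hBp (g := g) (h := u) (pPart_self hg) hs hne
  have h2 := block_orth hM hBp (g := g) (h := 1) (pPart_self hg)
    (pPart_one_of_odd (by rw [orderOf_one]; norm_num)) (fun hc => hg1 (isConj_one_left.1 hc))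
  have h3 : ∑ χ ∈ bset B, (χ : G → ℂ) g * ((χ : G → ℂ) 1 - (χ : G → ℂ) u⁻¹) = 0 := by
    simp only [mul_sub, Finset.sum_sub_distrib, h1]
    rw [inv_one] at h2
    rw [h2, sub_zero]
  have h4 : ∀ χ ∈ bset B, (χ : G → ℂ) g * ((χ : G → ℂ) 1 - (χ : G → ℂ) u⁻¹) =
      if χ = oneIrr G then 0 else (χ : G → ℂ) g * conj k := by
    intro χ hχ
    split_ifs with h
    · subst h; simp [oneIrr]
    · rw [← hc χ (mem_bset.1 hχ) (ne_one_iff.2 h), map_sub, irr_conjInv, irr_conjInv, inv_one]
  rw [Finset.sum_congr rfl h4, Finset.sum_ite, Finset.sum_const_zero, zero_add, ← Finset.sum_mul,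
    mul_eq_zero, map_eq_zero, or_iff_left hk, Finset.filter_ne'] at h3
  have h5 := (res_sum_two_elt hM hg hg1).1
  rw [← Finset.add_sum_erase _ _ (mem_bset.2 (oneIrr_mem hM) : oneIrr G ∈ bset B), h3, add_zero,
    show ((oneIrr G : IrrCharacter G) : G → ℂ) g = 1 from rfl, res_one] at h5
  exact one_ne_zero h5

variable (P : Sylow 2 G)
  (hab : ∀ x ∈ (P : Subgroup G), ∀ y ∈ (P : Subgroup G), x * y = y * x)

omit hc hk

include hab

/-- The normalised sum over the elements of odd order is an integer. -/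
theorem exists_oddSum_int (χ : IrrCharacter G) :
    ∃ z : ℤ, oddSum χ = ((P : Subgroup G).index : ℂ) * z := by
  classical
  haveI : Fact (Nat.Prime 2) := ⟨Nat.prime_two⟩
  haveI : Fintype (P : Subgroup G) := Fintype.ofFinite _
  set q := Nat.card (P : Subgroup G) with hq
  set c : G → ℂ := fun g => if g = 1 then (q : ℂ) else 0 with hcdef
  have hccl : IsClassFunction G c := fun g h => by simp only [hcdef, conj_eq_one_iff]
  have hst : CfsgLib.AbPrincipal.Stable 2 M (P : Subgroup G) c := fun g x _ _ _ _ => hccl x g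
  have hgen : IsGeneralizedCharacter (P : Subgroup G) fun a : (P : Subgroup G) => c a := by
    have := CfsgLib.AbPrincipal.isGenChar_indicator (K := (P : Subgroup G))
      (fun a b => Subtype.ext (hab a a.2 b b.2)) (⊥ : Subgroup (P : Subgroup G))
    rw [Subgroup.index_bot] at this
    convert this using 3 with a
    simp [Subgroup.mem_bot]
  have hmax := principal_maximal hM P
  set θ := starFun 2 M (CfsgLib.AbPrincipal.wt 2 M (P : Subgroup G) c)
    ((oneIrr G : IrrCharacter G) : G → ℂ) with hθ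
  have hθgen : IsGeneralizedCharacter G θ := starW_genChar hM hmax hst hgen _
  have hval : ∀ g, θ g = if 2 ∣ orderOf g then 0 else (q : ℂ) := by
    intro g
    obtain ⟨x, d, rfl, hx, hd⟩ := exists_regC_decomp (p := 2) Nat.prime_two g
    rw [hθ, starFun_section (r := c x) hM principalBlock_isPBlock (oneIrr_mem hM) hx hd]
    · obtain ⟨j, hj⟩ := hx
      obtain ⟨hcom, hdo⟩ := mem_regC.1 hd
      have ho : orderOf (x * d) = orderOf x * orderOf d :=
        hcom.orderOf_mul_eq_mul_orderOf_of_coprime (by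
          rw [hj]; exact (Nat.prime_two.coprime_iff_not_dvd.2 hdo).pow_left j)
      show c x * 1 = _
      by_cases hx1 : x = 1
      · rw [hx1, one_mul, if_neg hdo]
        simp [hcdef]
      · rw [if_pos, show c x = 0 by simp [hcdef, hx1], zero_mul]
        rw [ho]
        refine Dvd.dvd.mul_right ?_ _
        rcases Nat.eq_zero_or_pos j with rfl | hj0
        · exact absurd (orderOf_eq_one_iff.1 (by simpa using hj)) hx1
        · rw [hj]; exact dvd_pow_self 2 hj0.ne'
    · intro a ha hp
      obtain ⟨t, ht⟩ := (carries_iff_pairOf hM hmax).2 hp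
      rw [CfsgLib.AbPrincipal.wt, pairW_eq hst (mem_pairsAt.1 ha).1 ht, hccl]
  obtain ⟨z, hz⟩ := classInner_genChar_int hθgen (isGenChar_of_char (isCharacter_of_irr χ.2))
  refine ⟨z, ?_⟩
  have hsum : ∑ g, θ g * conj ((χ : G → ℂ) g) = (q : ℂ) * oddSum χ := by
    rw [oddSum, Finset.mul_sum]
    refine Finset.sum_congr rfl fun g _ => ?_
    rw [hval, regFn, irr_inv]
    split_ifs <;> simp
  rw [classInner, hsum, ← Subgroup.card_mul_index (P : Subgroup G), Nat.cast_mul, ← hq] at hz
  rw [← hz]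
  field_simp [Nat.cast_ne_zero.2 (Subgroup.index_ne_zero_of_finite (H := (P : Subgroup G))),
    Nat.cast_ne_zero.2 (Nat.card_pos (α := (P : Subgroup G))).ne']
  rw [mul_div_assoc, div_self (Nat.cast_ne_zero.2 (Nat.card_pos (α := (P : Subgroup G))).ne'),
    mul_one]

omit hab

/-- On the principal block the sum over odd order elements has the parity of the degree. -/
theorem res_oddSum {χ : IrrCharacter G} (hχ : χ ∈ principalBlock M G) :
    res hM (oddSum χ) = res hM ((χ : G → ℂ) 1) := by
  classical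
  haveI := res_isDomain hM
  set f := regFn 2 ((oneIrr G : IrrCharacter G) : G → ℂ) with hf
  have hom : ∀ ψ : IrrCharacter G, omega (ψ : G → ℂ) f * (ψ : G → ℂ) 1 = oddSum ψ := by
    intro ψ
    rw [omega, div_mul_cancel₀ _ (irr_one_ne_zero ψ), oddSum, ← regS_oneIrr, regS_comm]
    rfl
  have h := Zloc_res_congr hM (v := fun ψ : IrrCharacter G => omega (ψ : G → ℂ) f)
    (omega_mem_Zloc hM (regFn_isClassFunction _) (regFn_mem hM _)) (χ := oneIrr G) (ψ := χ) hχ
  have hone : res hM (omega ((oneIrr G : IrrCharacter G) : G → ℂ) f) = 1 := by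
    have h1 := congrArg (res hM) (hom (oneIrr G))
    rw [show ((oneIrr G : IrrCharacter G) : G → ℂ) 1 = 1 from rfl, mul_one, oddSum,
      sum_regFn_two hM fun g _ => rfl, show ((oneIrr G : IrrCharacter G) : G → ℂ) 1 = 1 from rfl,
      res_one] at h1
    exact h1
  rw [← hom χ, res_mul hM (memRing_omega_regFn hM _ _) (memRing_irr hM χ 1), ← h, hone, one_mul]

include hc hk hab

/-- The constant is the order of the Sylow subgroup. -/
theorem k_eq (hu : ∀ s, IsPPart 2 u s → s ≠ 1) : k = (Nat.card (P : Subgroup G) : ℂ) := by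
  classical
  haveI := res_isDomain hM
  haveI := res_charP hM
  set B := principalBlock M G with hB
  have hBp : IsPBlock M B := principalBlock_isPBlock
  set q := Nat.card (P : Subgroup G) with hq
  set m := (P : Subgroup G).index with hm
  have hqm : (Nat.card G : ℂ) = (q : ℂ) * m := by
    rw [← Nat.cast_mul, hq, hm, Subgroup.card_mul_index]
  obtain ⟨s, w, hsw, hcom, hs, hw, -, -⟩ := exists_pPart Nat.prime_two u
  have hsp : IsPPart 2 u s := ⟨w, hsw, hcom, hs, hw⟩
  have hs1 : s ≠ 1 := hu s hsp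
  -- orthogonality with `u`
  have h1 : ∑ χ ∈ bset B, oddSum χ * (χ : G → ℂ) u = 0 := by
    simp only [oddSum, Finset.sum_mul]
    rw [Finset.sum_comm]
    refine Finset.sum_eq_zero fun g _ => ?_
    by_cases hg : 2 ∣ orderOf g
    · exact Finset.sum_eq_zero fun χ _ => by simp [regFn, hg]
    · have := block_orth hM hBp (g := u) (h := g) hsp (pPart_one_of_odd hg)
        (fun h => hs1 (isConj_one_left.1 h))
      rw [← this]
      exact Finset.sum_congr rfl fun χ _ => by simp [regFn, hg, mul_comm]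
  -- orthogonality with the identity
  have h2 : ∑ χ ∈ bset B, oddSum χ * (χ : G → ℂ) 1 = (Nat.card G : ℂ) := by
    have e : ∀ χ : IrrCharacter G, ∑ g, (χ : G → ℂ) g⁻¹ =
        if χ = oneIrr G then (Nat.card G : ℂ) else 0 := by
      intro χ
      have h := classInner_irr (oneIrr G).2 χ.2
      rw [classInner] at h
      have h' : ∑ g, (χ : G → ℂ) g⁻¹ = ∑ g, (fun _ => (1 : ℂ)) g * conj ((χ : G → ℂ) g) :=
        Finset.sum_congr rfl fun g _ => by rw [irr_inv, one_mul]
      rw [h']
      change (Nat.card G : ℂ)⁻¹ * ∑ g, (fun _ => (1 : ℂ)) g * conj ((χ : G → ℂ) g) = _ at h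
      rw [← mul_right_inj' (inv_ne_zero (Nat.cast_ne_zero.2 (Nat.card_pos (α := G)).ne') :
        (Nat.card G : ℂ)⁻¹ ≠ 0), h]
      by_cases hχ : χ = oneIrr G
      · rw [if_pos (congrArg Subtype.val hχ.symm), if_pos hχ,
          inv_mul_cancel₀ (Nat.cast_ne_zero.2 (Nat.card_pos (α := G)).ne')]
      · rw [if_neg (fun e => hχ (Subtype.ext e).symm), if_neg hχ, mul_zero]
    calc ∑ χ ∈ bset B, oddSum χ * (χ : G → ℂ) 1
        = ∑ χ ∈ bset B, (∑ g, (χ : G → ℂ) g⁻¹) * (χ : G → ℂ) 1 := by
          simp only [oddSum, Finset.sum_mul]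
          rw [Finset.sum_comm, Finset.sum_comm (s := bset B)]
          refine Finset.sum_congr rfl fun g _ => ?_
          by_cases hg : 2 ∣ orderOf g
          · obtain ⟨x, w, hxw, hc', hx, hw', -, -⟩ := exists_pPart Nat.prime_two g
            have hx1 : x ≠ 1 := fun e => hw' (by rw [e, one_mul] at hxw; rwa [hxw])
            have := block_orth hM hBp (g := (1 : G)) (h := g)
              (pPart_one_of_odd (by rw [orderOf_one]; norm_num)) ⟨w, hxw, hc', hx, hw'⟩
              (fun h => hx1 (isConj_one_right.1 h))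
            rw [Finset.sum_eq_zero fun χ _ => by simp [regFn, hg], ← this]
            exact Finset.sum_congr rfl fun χ _ => mul_comm _ _
          · exact Finset.sum_congr rfl fun χ _ => by simp [regFn, hg]
      _ = _ := by
          simp only [e, ite_mul, zero_mul]
          rw [Finset.sum_ite_eq', if_pos (mem_bset.2 (oneIrr_mem hM))]
          show (Nat.card G : ℂ) * 1 = _
          rw [mul_one]
  choose z hz using exists_oddSum_int hM P hab
  set Z : ℤ := ∑ χ ∈ (bset B).erase (oneIrr G), z χ with hZ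
  have hkZ : k * Z = q := by
    have h3 : ∑ χ ∈ bset B, oddSum χ * ((χ : G → ℂ) 1 - (χ : G → ℂ) u) = (Nat.card G : ℂ) := by
      simp only [mul_sub, Finset.sum_sub_distrib, h1, h2, sub_zero]
    rw [← Finset.add_sum_erase _ _ (mem_bset.2 (oneIrr_mem hM) : oneIrr G ∈ bset B),
      Finset.sum_congr rfl fun χ hχ => by
        rw [hc χ (mem_bset.1 (Finset.mem_of_mem_erase hχ))
          (ne_one_iff.2 (Finset.ne_of_mem_erase hχ)), hz], hqm,
      show ((oneIrr G : IrrCharacter G) : G → ℂ) 1 - ((oneIrr G : IrrCharacter G) : G → ℂ) u = 0 from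
        sub_self _, mul_zero, zero_add, ← Finset.sum_mul, ← Finset.mul_sum] at h3
    have hm0 : (m : ℂ) ≠ 0 := Nat.cast_ne_zero.2 Subgroup.index_ne_zero_of_finite
    rw [hZ, Int.cast_sum]
    exact mul_left_cancel₀ hm0 (by linear_combination h3)
  -- parity
  have hZodd : Odd Z := by
    rw [← Int.not_even_iff_odd]
    rintro ⟨j, hj⟩
    have hres : res hM (∑ χ ∈ (bset B).erase (oneIrr G), oddSum χ) = 0 := by
      rw [Finset.sum_congr rfl fun χ _ => hz χ, ← Finset.mul_sum, ← Int.cast_sum, ← hZ, hj,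
        res_mul hM (memRing_natCast hM _) (memRing_intCast hM _)]
      push_cast
      rw [res_add hM (memRing_intCast hM _) (memRing_intCast hM _), res_double hM, mul_zero]
    rw [res_sum hM fun χ _ => (show MemLocalRing M (oddSum χ) from memRing_regFn_omega_one hM χ),
      Finset.sum_congr rfl fun χ hχ => res_oddSum hM (mem_bset.1 (Finset.mem_of_mem_erase hχ)),
      ← res_sum hM fun χ _ => memRing_irr hM χ 1] at hres
    have h5 := (res_sum_two_elt hM hs hs1).2
    rw [← Finset.add_sum_erase _ _ (mem_bset.2 (oneIrr_mem hM) : oneIrr G ∈ bset B),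
      show ((oneIrr G : IrrCharacter G) : G → ℂ) 1 = 1 from rfl,
      res_add hM (memRing_natCast hM 1 |> fun h => by simpa using h)
        (memRing_sum hM fun χ _ => memRing_irr hM χ 1), res_one, hres, add_zero] at h5
    exact one_ne_zero h5
  -- a nontrivial character
  obtain ⟨χ, hχ, hχ1⟩ : ∃ χ ∈ B, χ ≠ oneIrr G := by
    by_contra h
    push Not at h
    have : Z = 0 := by
      rw [hZ]
      exact Finset.sum_eq_zero fun χ hχ => absurd (h χ (mem_bset.1 (Finset.mem_of_mem_erase hχ)))
        (Finset.ne_of_mem_erase hχ)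
    rw [this] at hZodd
    exact absurd hZodd (by decide)
  have hkv := hc χ hχ (ne_one_iff.2 hχ1)
  have hZ0 : (Z : ℂ) ≠ 0 := Int.cast_ne_zero.2 fun e => by rw [e] at hZodd; exact absurd hZodd (by decide)
  have hint : IsIntegral ℤ k := hkv ▸
    (isIntegral_of_char (isCharacter_of_irr χ.2) 1).sub
      (isIntegral_of_char (isCharacter_of_irr χ.2) u)
  obtain ⟨c, hc'⟩ := IsIntegrallyClosed.isIntegral_iff.1 (show IsIntegral ℤ ((q : ℚ) / Z) from
    (isIntegral_algebraMap_iff (algebraMap ℚ ℂ).injective).1 (by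
      rw [map_div₀, map_natCast, map_intCast, ← hkZ, mul_div_assoc, div_self hZ0, mul_one]
      exact hint))
  have hkc : k = (c : ℂ) := by
    have : (q : ℂ) / Z = c := by
      have := congrArg (algebraMap ℚ ℂ) hc'.symm
      simpa using this
    rw [← this, ← hkZ, mul_div_assoc, div_self hZ0, mul_one]
  rw [hkc] at hkZ hkv
  have hcZ : c * Z = q := by exact_mod_cast hkZ
  obtain ⟨P', hP'⟩ := IsPGroup.iff_card.1 P.2
  have hdvd : Z.natAbs ∣ 2 ^ P' := by
    rw [← hP', ← hq]
    exact Int.natCast_dvd_natCast.1 (Int.natAbs_dvd.2 ⟨c, by rw [← hcZ, mul_comm]⟩)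
  obtain ⟨i, -, hi⟩ := (Nat.dvd_prime_pow Nat.prime_two).1 hdvd
  have habs : Z.natAbs = 1 := by
    rcases Nat.eq_zero_or_pos i with rfl | hi0
    · simpa using hi
    · exfalso
      have : Even Z.natAbs := by rw [hi]; exact (even_two.pow_of_ne_zero hi0.ne')
      rw [Int.natAbs_even] at this
      exact Int.not_even_iff_odd.2 hZodd this
  have hc0 : 0 ≤ c := by
    have hre : ((χ : G → ℂ) 1 - (χ : G → ℂ) u).re = (c : ℝ) := by rw [hkv]; simp
    have h1 := norm_char_le (isCharacter_of_irr χ.2) u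
    rw [← irr_charDegree_cast χ, Complex.norm_natCast] at h1
    rw [Complex.sub_re, ← irr_charDegree_cast χ, Complex.natCast_re] at hre
    have h2 := Complex.re_le_norm ((χ : G → ℂ) u)
    exact_mod_cast (by linarith : (0 : ℝ) ≤ c)
  rw [hkc]
  have hcq : c = q := by
    rcases Int.natAbs_eq_iff.1 habs with e | e <;> rw [e] at hcZ <;> omega
  rw [hcq, Int.cast_natCast]

end hyp

end CfsgLib.ConstDiff
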