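import Cfsg.Agent.Lib.ConstDiff.Final
import Cfsg.Agent.Lib.Blocks.MajorValue
import Cfsg.Agent.Lib.AbPrincipal.Tools

/-!
# Constant difference: `PSL₂(2ⁿ)` at an involution
-/

namespace CfsgLib.ConstDiff

open Cfsg CfsgLib.CharTheory CfsgLib.Blocks
open scoped ComplexConjugate

set_option linter.unusedVariables false
set_option linter.style.haveILetI false
set_option linter.unusedSectionVars false

universe u

variable {M : Ideal AlgInt} {G : Type u} [Group G] [Fintype G] {F : Type} [Field F] [Fintype F]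
  [CharP F 2]

local notation "PSL" => Matrix.ProjectiveSpecialLinearGroup (Fin 2) F

theorem two_sq_psl (e : G ≃* PSL) {x : G} (hx : ∃ k, orderOf x = 2 ^ k) : x * x = 1 := by
  classical
  haveI : Fact (Nat.Prime 2) := ⟨Nat.prime_two⟩
  haveI := Fintype.ofFinite PSL
  obtain ⟨k, hk⟩ := hx
  obtain ⟨T, hT⟩ := (IsPGroup.of_card (p := 2) (n := k) (G := Subgroup.zpowers (e x))
    (by rw [Nat.card_zpowers, MulEquiv.orderOf_eq, hk])).exists_le_sylow
  obtain ⟨c, hc⟩ := MulAction.exists_smul_eq PSL (PSL2.uSylow (F := F) 2) T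
  have hgT := hT (Subgroup.mem_zpowers (e x))
  rw [← hc, Sylow.coe_subgroup_smul, Subgroup.mem_pointwise_smul_iff_inv_smul_mem] at hgT
  obtain ⟨t, ht⟩ := AbPrincipal.mem_uSylow.1 hgT
  simp only [MulAut.smul_def, ← map_inv, MulAut.conj_apply, inv_inv] at ht
  have h2 : PSL2.uu t * PSL2.uu t = (1 : PSL) := by
    show PSL2.uHom (Multiplicative.ofAdd t) * PSL2.uHom (Multiplicative.ofAdd t) = 1
    rw [← map_mul, ← ofAdd_add, CharTwo.add_self_eq_zero, ofAdd_zero, map_one]
  refine e.injective ?_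
  rw [map_mul, map_one]
  calc e x * e x = c * ((c⁻¹ * e x * c) * (c⁻¹ * e x * c)) * c⁻¹ := by group
    _ = 1 := by rw [← ht, h2, mul_one, mul_inv_cancel]

/-- In `PSL₂(2ⁿ)` the principal block has the constant difference `2ⁿ` at an involution. -/
theorem const_psl (hM : IsPModular 2 M) (h4 : 4 ≤ Fintype.card F) {n : ℕ} (hn : Fintype.card F = 2 ^ n)
    (e : G ≃* PSL) {u : G} (hu1 : u ≠ 1) (hu2 : u * u = 1) : Const M u (Fintype.card F : ℂ) := by
  classical
  haveI : Fact (Nat.Prime 2) := ⟨Nat.prime_two⟩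
  haveI := Fintype.ofFinite PSL
  set q := Fintype.card F with hq
  set B := principalBlock M G with hB
  have hu : orderOf u = 2 := orderOf_eq_prime (by rw [pow_two, hu2]) hu1
  set C := Subgroup.centralizer ({u} : Set G) with hC
  have hCq : Nat.card C = q := card_cent_psl e hu
  have hsyl : Nat.card C = 2 ^ (Nat.card G).factorization 2 := by
    rw [hCq, hq, ← card_sylow_psl e (default : Sylow 2 G), Sylow.card_eq_multiplicity]
  let T : Sylow 2 G := Sylow.ofCard C hsyl
  have hTC : (T : Subgroup G) = C := Sylow.coe_ofCard _ _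
  have hCp : IsPGroup 2 C := IsPGroup.of_card (hCq.trans hn)
  have htwo : ∀ x ∈ C, ∃ k, orderOf x = 2 ^ k := fun x hx => by
    obtain ⟨k, hk⟩ := IsPGroup.iff_orderOf.1 hCp ⟨x, hx⟩
    exact ⟨k, by rw [← hk, ← Subgroup.orderOf_coe]⟩
  have hCab : ∀ x ∈ C, ∀ y ∈ C, x * y = y * x := by
    intro x hx y hy
    have h := inv_eq_of_mul_eq_one_right (two_sq_psl e (htwo _ (C.mul_mem hx hy)))
    rw [mul_inv_rev, inv_eq_of_mul_eq_one_right (two_sq_psl e (htwo x hx)),
      inv_eq_of_mul_eq_one_right (two_sq_psl e (htwo y hy))] at h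
    exact h.symm
  have hconst : ∀ χ : IrrCharacter G, ∀ x ∈ C, x ≠ 1 → (χ : G → ℂ) x = (χ : G → ℂ) u := by
    intro χ x hx hx1
    obtain ⟨c, hc⟩ := isConj_iff.1 (conj_of_involutions e hu
      (orderOf_eq_prime (by rw [pow_two, two_sq_psl e (htwo x hx)]) hx1))
    rw [← hc, irr_isClassFun χ]
  choose b hb using fun χ : IrrCharacter G =>
    (const_mults C hCab (by rw [hCq]; omega) (isCharacter_of_irr χ.2) (hconst χ)).1
  simp only [hCq] at hb
  set d : IrrCharacter G → ℕ := fun χ => charDegree (χ : G → ℂ) with hd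
  set ε : IrrCharacter G → ℤ := fun χ => (d χ : ℤ) - q * b χ with hε
  have hval : ∀ χ : IrrCharacter G, (χ : G → ℂ) u = ((ε χ : ℤ) : ℂ) := fun χ => by
    rw [hε, hd]
    push_cast
    rw [irr_charDegree_cast, ← hb χ]
    ring
  -- the values at `u`
  have hsq : ∑ χ : IrrCharacter G, ε χ ^ 2 = (q : ℤ) := by
    have h := sum_irr_mul_conj u u
    rw [if_pos (IsConj.refl u), ← hC, hCq] at h
    simp only [hval, map_intCast] at h
    have h' : ((∑ χ : IrrCharacter G, ε χ ^ 2 : ℤ) : ℂ) = ((q : ℤ) : ℂ) := by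
      push_cast
      simpa [pow_two] using h
    exact_mod_cast h'
  have hne : ∀ χ ∈ B, ε χ ≠ 0 := by
    intro χ hχ h0
    obtain ⟨c, hc, hodd, hne⟩ := exists_major_value_ne_zero hM principalBlock_isPBlock
      (maximal_isDefectGroup hM (principal_maximal hM T)) (z := u)
      (hTC ▸ Subgroup.mem_centralizer_singleton_iff.2 rfl)
      (fun x hx => Subgroup.mem_centralizer_singleton_iff.1 (hTC ▸ hx : x ∈ C)) hχ
    obtain ⟨k, hk⟩ := htwo c (Subgroup.mem_centralizer_singleton_iff.2 hc.eq)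
    rcases Nat.eq_zero_or_pos k with rfl | hk0
    · have hc1 : c = 1 := orderOf_eq_one_iff.1 (by simpa using hk)
      rw [hc1, mul_one, hval, h0, Int.cast_zero] at hne
      exact hne rfl
    · exact hodd (hk ▸ dvd_pow_self 2 hk0.ne')
  have hcardB : q ≤ (bset B).card := by
    have h := AbPrincipal.card_principal_psl (F := F) hM h4
    rwa [← AbPrincipal.card_principal_equiv e, Nat.card_coe_set_eq, ← hB,
      Set.ncard_eq_toFinset_card _ B.toFinite] at h
  have hone : ∀ χ ∈ bset B, 1 ≤ ε χ ^ 2 := fun χ hχ => by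
    have := sq_pos_of_ne_zero (hne χ (mem_bset.1 hχ))
    omega
  have hsplit := Finset.sum_sdiff (Finset.subset_univ (bset B)) (f := fun χ => ε χ ^ 2)
  rw [hsq] at hsplit
  have h0le : 0 ≤ ∑ χ ∈ Finset.univ \ bset B, ε χ ^ 2 := Finset.sum_nonneg fun χ _ => sq_nonneg _
  have hge : ((bset B).card : ℤ) ≤ ∑ χ ∈ bset B, ε χ ^ 2 := by
    have := Finset.sum_le_sum hone
    simpa using this
  have hout : ∀ χ, χ ∉ bset B → ε χ = 0 := by
    intro χ hχ
    have := (Finset.sum_eq_zero_iff_of_nonneg fun χ _ => sq_nonneg (ε χ)).1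
      (show ∑ χ ∈ Finset.univ \ bset B, ε χ ^ 2 = 0 by omega) χ (by simp [hχ])
    exact pow_eq_zero_iff two_ne_zero |>.1 this
  have hpm : ∀ χ ∈ bset B, ε χ ^ 2 = 1 := by
    intro χ hχ
    have h1 : ∑ χ ∈ bset B, (ε χ ^ 2 - 1) = 0 := by
      rw [Finset.sum_sub_distrib, Finset.sum_const, nsmul_eq_mul, mul_one]
      omega
    have := (Finset.sum_eq_zero_iff_of_nonneg fun χ hχ => sub_nonneg.2 (hone χ hχ)).1 h1 χ hχ
    omega
  have hcardq : (bset B).card = q := by omega
  -- the trivial character and the others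
  have hb0 : b (oneIrr G) = 0 := by
    have h := hb (oneIrr G)
    rw [show ((oneIrr G : IrrCharacter G) : G → ℂ) 1 = 1 from rfl,
      show ((oneIrr G : IrrCharacter G) : G → ℂ) u = 1 from rfl, sub_self] at h
    have hq0 : (q : ℂ) ≠ 0 := Nat.cast_ne_zero.2 (by omega)
    exact_mod_cast (mul_eq_zero.1 h.symm).resolve_left hq0
  have hε1 : ε (oneIrr G) = 1 := by
    have h := hval (oneIrr G)
    rw [show ((oneIrr G : IrrCharacter G) : G → ℂ) u = 1 from rfl] at h
    exact_mod_cast h.symm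
  haveI : IsSimpleGroup PSL :=
    Matrix.ProjectiveSpecialLinearGroup.rank_two_simple (by rw [Nat.card_eq_fintype_card]; omega)
  haveI : IsSimpleGroup G := e.isSimpleGroup
  have hb1 : ∀ χ : IrrCharacter G, χ ≠ oneIrr G → 1 ≤ b χ := by
    intro χ hχ
    by_contra hlt
    have h := hb χ
    rw [show b χ = 0 by omega, Nat.cast_zero, mul_zero, sub_eq_zero] at h
    set L := charKernel (χ : G → ℂ) (isCharacter_of_irr χ.2) with hL
    haveI hLn : L.Normal := ⟨fun g hg t => (mem_charKernel _ _).2 (by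
      rw [irr_isClassFun χ, (mem_charKernel _ g).1 hg])⟩
    have htop : L = ⊤ := (IsSimpleGroup.eq_bot_or_eq_top_of_normal L hLn).resolve_left fun e =>
      hu1 (Subgroup.mem_bot.1 (e ▸ (mem_charKernel _ u).2 h.symm))
    have hall : ∀ g, (χ : G → ℂ) g = (χ : G → ℂ) 1 := fun g =>
      (mem_charKernel _ g).1 (htop ▸ Subgroup.mem_top g)
    have ho := classInner_irr χ.2 (oneIrr G).2
    rw [if_neg fun e => hχ (Subtype.ext e), classInner, mul_eq_zero,
      or_iff_right (inv_ne_zero (Nat.cast_ne_zero.2 Nat.card_pos.ne'))] at ho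
    simp only [hall, show ∀ g, ((oneIrr G : IrrCharacter G) : G → ℂ) g = 1 from fun _ => rfl,
      map_one, mul_one, Finset.sum_const, nsmul_eq_mul] at ho
    exact irr_one_ne_zero χ ((mul_eq_zero.1 ho).resolve_left
      (Nat.cast_ne_zero.2 (Finset.card_ne_zero.2 Finset.univ_nonempty)))
  -- the degrees
  have hdeq : ∀ χ, (d χ : ℤ) = ε χ + q * b χ := fun χ => by rw [hε]; ring
  have hεb : ∑ χ ∈ bset B, ε χ * b χ = -1 := by
    have h := sum_irr_apply_mul_degree u
    rw [if_neg hu1] at h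
    simp only [hval] at h
    have h' : ((∑ χ : IrrCharacter G, ε χ * (d χ : ℤ) : ℤ) : ℂ) = ((0 : ℤ) : ℂ) := by
      push_cast
      simpa [hd, irr_charDegree_cast] using h
    have h0 : ∑ χ : IrrCharacter G, ε χ * (d χ : ℤ) = 0 := by exact_mod_cast h'
    rw [← Finset.sum_subset (Finset.subset_univ (bset B)) fun χ _ hχ => by rw [hout χ hχ, zero_mul],
      Finset.sum_congr rfl fun χ hχ => show ε χ * (d χ : ℤ) = 1 + (q : ℤ) * (ε χ * b χ) by
        rw [hdeq, ← hpm χ hχ]; ring,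
      Finset.sum_add_distrib, Finset.sum_const, nsmul_eq_mul, mul_one, ← Finset.mul_sum, hcardq] at h0
    have hq0 : (q : ℤ) ≠ 0 := by omega
    refine mul_left_cancel₀ hq0 ?_
    linarith
  have hbound : ∑ χ ∈ bset B, (b χ : ℤ) ^ 2 ≤ q := by
    have h := sum_irr_degree_sq (G := G)
    have h' : ((∑ χ : IrrCharacter G, (d χ : ℤ) ^ 2 : ℤ) : ℂ) = ((Nat.card G : ℤ) : ℂ) := by
      push_cast
      simpa [hd, irr_charDegree_cast] using h
    have h0 : ∑ χ : IrrCharacter G, (d χ : ℤ) ^ 2 = Nat.card G := by exact_mod_cast h'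
    have hle : ∑ χ ∈ bset B, (d χ : ℤ) ^ 2 ≤ Nat.card G := h0 ▸
      Finset.sum_le_sum_of_subset_of_nonneg (Finset.subset_univ _) fun χ _ _ => sq_nonneg _
    rw [Finset.sum_congr rfl fun χ hχ => show (d χ : ℤ) ^ 2 =
        1 + 2 * q * (ε χ * b χ) + (q : ℤ) ^ 2 * (b χ : ℤ) ^ 2 by
        rw [hdeq, ← hpm χ hχ]; ring,
      Finset.sum_add_distrib, Finset.sum_add_distrib, Finset.sum_const, nsmul_eq_mul, mul_one,
      ← Finset.mul_sum, ← Finset.mul_sum, hεb, hcardq] at hle
    have hG : (Nat.card G : ℤ) = (q : ℤ) ^ 3 - q := by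
      have hc := DicksonFull.card_psl (F := F)
      have hev : 2 ∣ q := by
        rw [hn]; exact dvd_pow_self 2 fun e => by rw [e, pow_zero] at hn; omega
      rw [show Nat.gcd 2 (q - 1) = 1 from Nat.prime_two.coprime_iff_not_dvd.2 (by omega), one_mul,
        ← Nat.card_congr e.toEquiv] at hc
      have hq2 : 1 ≤ q ^ 2 := Nat.one_le_pow _ _ (by omega)
      rw [hc, Nat.cast_mul, Nat.cast_sub hq2]
      push_cast
      ring
    rw [hG] at hle
    have hq0 : (0 : ℤ) < (q : ℤ) ^ 2 := by positivity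
    nlinarith
  intro χ hχ hχ1
  have hne' := ne_one_iff.1 hχ1
  have hbχ : b χ = 1 := by
    by_contra hne2
    have h1 := hb1 χ hne'
    have hmem : χ ∈ (bset B).erase (oneIrr G) := Finset.mem_erase.2 ⟨hne', mem_bset.2 hχ⟩
    rw [← Finset.add_sum_erase _ _ (mem_bset.2 (oneIrr_mem hM) : oneIrr G ∈ bset B), hb0,
      ← Finset.add_sum_erase _ _ hmem] at hbound
    have hrest : (((bset B).erase (oneIrr G)).erase χ).card ≤
        ∑ φ ∈ ((bset B).erase (oneIrr G)).erase χ, (b φ : ℤ) ^ 2 := by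
      have : ∀ φ ∈ ((bset B).erase (oneIrr G)).erase χ, (1 : ℤ) ≤ (b φ : ℤ) ^ 2 := fun φ hφ =>
        one_le_pow₀ (by exact_mod_cast hb1 φ (Finset.ne_of_mem_erase (Finset.mem_of_mem_erase hφ)))
      simpa using Finset.sum_le_sum this
    rw [Finset.card_erase_of_mem hmem, Finset.card_erase_of_mem (mem_bset.2 (oneIrr_mem hM)),
      hcardq] at hrest
    have h2 : (4 : ℤ) ≤ (b χ : ℤ) ^ 2 := by
      have : (2 : ℤ) ≤ b χ := by exact_mod_cast (show 2 ≤ b χ by omega)
      nlinarith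
    rw [Nat.cast_zero, zero_pow two_ne_zero] at hbound
    have : ((q - 1 - 1 : ℕ) : ℤ) = (q : ℤ) - 2 := by omega
    omega
  rw [hb χ, hbχ, Nat.cast_one, mul_one]

end CfsgLib.ConstDiff
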