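import Cfsg.Agent.Lib.ConstDiff.Struct

/-!
# Constant difference: a faithful character of degree `|P| - 1` and a simple normal subgroup
-/

namespace CfsgLib.ConstDiff

open Cfsg CfsgLib.CharTheory CfsgLib.Blocks
open scoped ComplexConjugate

set_option linter.unusedVariables false
set_option linter.style.haveILetI false
set_option linter.unusedSectionVars false

universe u

section mult

variable {H : Type u} [Group H] [Fintype H] (Q : Subgroup H)

/-- Multiplicities in a character that is constant on the nontrivial elements of an abelian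
subgroup. -/
theorem const_mults (hab : ∀ x ∈ Q, ∀ y ∈ Q, x * y = y * x) (h1 : 1 < Nat.card Q) {F : H → ℂ}
    (hF : IsCharacter H F) {a : ℂ} (ha : ∀ x ∈ Q, x ≠ 1 → F x = a) :
    (∃ n : ℕ, F 1 - a = (Nat.card Q : ℂ) * n) ∧
      ∃ n : ℕ, F 1 + ((Nat.card Q : ℂ) - 1) * a = (Nat.card Q : ℂ) * n := by
  classical
  haveI : Fintype Q := Fintype.ofFinite _
  letI : CommGroup Q :=
    { (inferInstance : Group Q) with mul_comm := fun x y => Subtype.ext (hab x x.2 y y.2) }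
  haveI : Nontrivial Q := Finite.one_lt_card_iff_nontrivial.1 h1
  haveI : NeZero (Monoid.exponent Q) := ⟨Monoid.exponent_ne_zero_of_finite⟩
  obtain ⟨b, hb⟩ := exists_ne (1 : Q)
  obtain ⟨φ, hφ⟩ := CommGroup.exists_apply_ne_one_of_hasEnoughRootsOfUnity Q ℂ hb
  have hres : IsCharacter Q fun x : Q => F x := isCharacter_comp hF Q.subtype
  have hq : (Nat.card Q : ℂ) ≠ 0 := Nat.cast_ne_zero.2 Nat.card_pos.ne'
  have key : ∀ l : Q →* ℂˣ, ∃ n : ℕ,
      F 1 + a * (∑ x : Q, conj ((l x : ℂˣ) : ℂ) - 1) = (Nat.card Q : ℂ) * n := by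
    intro l
    obtain ⟨n, hn⟩ := classInner_char_nat hres (isCharacter_of_irr (isIrrCharacter_linear l))
    refine ⟨n, ?_⟩
    rw [classInner, inv_mul_eq_iff_eq_mul₀ hq] at hn
    rw [← hn, ← Finset.add_sum_erase _ _ (Finset.mem_univ (1 : Q)),
      ← Finset.add_sum_erase _ _ (Finset.mem_univ (1 : Q)),
      Finset.sum_congr rfl fun (x : Q) hx => show F x * conj ((l x : ℂˣ) : ℂ) =
        a * conj ((l x : ℂˣ) : ℂ) by
        rw [ha x x.2 fun e => Finset.ne_of_mem_erase hx (Subtype.ext e)], ← Finset.mul_sum]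
    simp only [map_one, Units.val_one, OneMemClass.coe_one, mul_one, add_sub_cancel_left]
  refine ⟨?_, ?_⟩
  · obtain ⟨n, hn⟩ := key φ
    refine ⟨n, ?_⟩
    have h0 : ∑ x : Q, conj ((φ x : ℂˣ) : ℂ) = 0 := by
      have h : ∑ x : Q, ((φ x : ℂˣ) : ℂ) = 0 := sum_hom_units_eq_zero ((Units.coeHom ℂ).comp φ)
        fun e => hφ (Units.ext (DFunLike.congr_fun e b))
      rw [← map_sum, h, map_zero]
    rw [h0] at hn
    linear_combination hn
  · obtain ⟨n, hn⟩ := key 1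
    refine ⟨n, ?_⟩
    simp only [MonoidHom.one_apply, Units.val_one, map_one, Finset.sum_const, Finset.card_univ,
      nsmul_eq_mul, mul_one, ← Nat.card_eq_fintype_card] at hn
    linear_combination hn

/-- Such a character of degree `|Q| - 1` is irreducible when `H` is transitive on the nontrivial
elements. -/
theorem irr_of_transitive (hab : ∀ x ∈ Q, ∀ y ∈ Q, x * y = y * x) (h1 : 1 < Nat.card Q)
    (htr : ∀ x ∈ Q, ∀ y ∈ Q, x ≠ 1 → y ≠ 1 → IsConj x y) {F : H → ℂ} (hF : IsCharacter H F)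
    (hd : F 1 = (Nat.card Q : ℂ) - 1) (ha : ∀ x ∈ Q, x ≠ 1 → F x = -1) : IsIrrCharacter H F := by
  classical
  haveI : Fintype Q := Fintype.ofFinite _
  haveI : Nontrivial Q := Finite.one_lt_card_iff_nontrivial.1 h1
  obtain ⟨b, hb⟩ := exists_ne (1 : Q)
  have hb' : (b : H) ≠ 1 := fun e => hb (Subtype.ext e)
  set q := Nat.card Q with hq
  choose m hm using fun ψ : IrrCharacter H => classInner_char_nat hF (isCharacter_of_irr ψ.2)
  have hexp : ∀ g, F g = ∑ ψ : IrrCharacter H, (m ψ : ℂ) * (ψ : H → ℂ) g := fun g => by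
    have := congrFun (eq_sum_irr (isClassFunction_char hF)) g
    simpa [hm] using this
  have hconst : ∀ ψ : IrrCharacter H, ∀ x ∈ Q, x ≠ 1 → (ψ : H → ℂ) x = (ψ : H → ℂ) b := by
    intro ψ x hx hx1
    obtain ⟨c, hc⟩ := isConj_iff.1 (htr b b.2 x hx hb' hx1)
    rw [← hc, irr_isClassFun ψ]
  choose t ht using fun ψ : IrrCharacter H =>
    (const_mults Q hab h1 (isCharacter_of_irr ψ.2) (hconst ψ)).2
  choose s hs using fun ψ : IrrCharacter H =>
    (const_mults Q hab h1 (isCharacter_of_irr ψ.2) (hconst ψ)).1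
  have ht0 : ∀ ψ, m ψ * t ψ = 0 := by
    have h : ((∑ ψ : IrrCharacter H, m ψ * t ψ : ℕ) : ℂ) * q = 0 := by
      push_cast
      rw [Finset.sum_mul, show (0 : ℂ) = F 1 + ((q : ℂ) - 1) * F b by rw [hd, ha b b.2 hb']; ring,
        hexp, hexp, Finset.mul_sum, ← Finset.sum_add_distrib]
      refine Finset.sum_congr rfl fun ψ _ => ?_
      rw [mul_assoc, mul_comm (t ψ : ℂ), ← ht ψ]
      ring
    rw [mul_eq_zero, or_iff_left (Nat.cast_ne_zero.2 (by omega)), Nat.cast_eq_zero,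
      Finset.sum_eq_zero_iff] at h
    exact fun ψ => h ψ (Finset.mem_univ ψ)
  have hdeg : ∀ ψ, m ψ ≠ 0 → charDegree (ψ : H → ℂ) = (q - 1) * s ψ ∧ 1 ≤ s ψ := by
    intro ψ hψ
    have e := ht ψ
    rw [(mul_eq_zero.1 (ht0 ψ)).resolve_left hψ, Nat.cast_zero, mul_zero] at e
    have e2 := hs ψ
    have hd' : (ψ : H → ℂ) 1 = ((q - 1 : ℕ) : ℂ) * (s ψ : ℂ) := by
      rw [Nat.cast_sub (by omega), Nat.cast_one]
      have hq0 : (q : ℂ) ≠ 0 := Nat.cast_ne_zero.2 (by omega)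
      refine mul_left_cancel₀ hq0 ?_
      linear_combination e + ((q : ℂ) - 1) * e2
    rw [← irr_charDegree_cast ψ, ← Nat.cast_mul, Nat.cast_inj] at hd'
    refine ⟨hd', Nat.one_le_iff_ne_zero.2 fun h0 => ?_⟩
    rw [h0, mul_zero] at hd'
    exact (irr_charDegree_pos ψ).ne' hd'
  have hsum : ∑ ψ : IrrCharacter H, m ψ * charDegree (ψ : H → ℂ) = q - 1 := by
    apply Nat.cast_injective (R := ℂ)
    rw [Nat.cast_sub (by omega), Nat.cast_one, ← hd, hexp, Nat.cast_sum]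
    exact Finset.sum_congr rfl fun ψ _ => by rw [Nat.cast_mul, irr_charDegree_cast]
  obtain ⟨ψ, hψ⟩ : ∃ ψ, m ψ ≠ 0 := by
    by_contra h
    push Not at h
    rw [Finset.sum_eq_zero fun ψ _ => by rw [h ψ, zero_mul]] at hsum
    omega
  have hge : q - 1 ≤ charDegree (ψ : H → ℂ) := by
    obtain ⟨e, hs1⟩ := hdeg ψ hψ
    rw [e]; exact Nat.le_mul_of_pos_right _ hs1
  rw [← Finset.add_sum_erase _ _ (Finset.mem_univ ψ)] at hsum
  have h2 : 1 * charDegree (ψ : H → ℂ) ≤ m ψ * charDegree (ψ : H → ℂ) :=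
    Nat.mul_le_mul_right _ (Nat.one_le_iff_ne_zero.2 hψ)
  have hrest : ∀ φ ∈ (Finset.univ : Finset (IrrCharacter H)).erase ψ, m φ = 0 := by
    intro φ hφ
    have := Finset.sum_eq_zero_iff.1 (show ∑ φ ∈ (Finset.univ : Finset (IrrCharacter H)).erase ψ,
      m φ * charDegree (φ : H → ℂ) = 0 by omega) φ hφ
    exact (mul_eq_zero.1 this).resolve_right (irr_charDegree_pos φ).ne'
  have hm1 : m ψ = 1 := by
    have hpos := irr_charDegree_pos ψ
    have h3 : m ψ * charDegree (ψ : H → ℂ) ≤ 1 * charDegree (ψ : H → ℂ) := by omega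
    have := Nat.le_of_mul_le_mul_right h3 hpos
    omega
  have : F = (ψ : H → ℂ) := funext fun g => by
    rw [hexp, ← Finset.add_sum_erase _ _ (Finset.mem_univ ψ), hm1, Finset.sum_eq_zero fun φ hφ => by
      rw [hrest φ hφ, Nat.cast_zero, zero_mul]]
    simp
  rw [this]
  exact ψ.2

end mult

variable {M : Ideal AlgInt} {G : Type u} [Group G] [Fintype G]

namespace Setup

variable {P : Sylow 2 G} {u : G} (S : Setup M P u)

include S

theorem eq_two_of_normal (hn : (P : Subgroup G).Normal) : Nat.card G = 2 := by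
  classical
  haveI := hn
  haveI : Fact (Nat.Prime 2) := ⟨Nat.prime_two⟩
  set C := Subgroup.centralizer ((P : Subgroup G) : Set G) with hC
  have hPC : (P : Subgroup G) ≤ C := fun x hx => Subgroup.mem_centralizer_iff.2 fun y hy => S.comm y hy x hx
  haveI hCn : C.Normal := ⟨fun x hx g => Subgroup.mem_centralizer_iff.2 fun y hy => by
    have h := Subgroup.mem_centralizer_iff.1 hx (g⁻¹ * y * g) (by
      have := hn.conj_mem y hy g⁻¹
      rwa [inv_inv] at this)
    calc y * (g * x * g⁻¹) = g * ((g⁻¹ * y * g) * x) * g⁻¹ := by group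
      _ = g * (x * (g⁻¹ * y * g)) * g⁻¹ := by rw [h]
      _ = g * x * g⁻¹ * y := by group⟩
  have hsup := S.sup_centralizer (N := (P : Subgroup G)) le_rfl
  rw [sup_eq_right.2 hPC] at hsup
  have hall : ∀ g : G, ∀ x ∈ (P : Subgroup G), x * g = g * x := fun g x hx =>
    Subgroup.mem_centralizer_iff.1 (show g ∈ C from hsup ▸ Subgroup.mem_top g) x hx
  have hN : Subgroup.normalizer ((P : Subgroup G) : Set G) ≤
      Subgroup.centralizer ((P : Subgroup G) : Set G) := fun g _ =>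
    (hsup ▸ Subgroup.mem_top g : g ∈ C)
  obtain ⟨T, K, hK, hcpl⟩ := CfsgLib.hasNormalPComplement_of_normalizer_le_centralizer P hN
  haveI := hK
  have hKb : K = ⊥ := le_bot_iff.1 (S.core ▸ le_sSup ⟨hK, (Nat.prime_two.coprime_iff_not_dvd.2
    (by rw [← hcpl.index_eq_card]; exact T.not_dvd_index)).symm⟩)
  have hcard : Nat.card G = Nat.card (P : Subgroup G) := by
    have := hcpl.card_mul
    rw [hKb, Subgroup.card_bot, one_mul] at this
    rw [← this]
    exact Nat.card_congr (T.equiv P).toEquiv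
  have h1 : Nat.card (P : Subgroup G) ≤ 2 := by
    haveI : Fintype (P : Subgroup G) := Fintype.ofFinite _
    by_contra h
    push Not at h
    obtain ⟨a, b, ha, hb, hab⟩ : ∃ a b : (P : Subgroup G), a ≠ 1 ∧ b ≠ 1 ∧ a ≠ b := by
      have hc : 1 < (Finset.univ.erase (1 : (P : Subgroup G))).card := by
        rw [Finset.card_erase_of_mem (Finset.mem_univ _), Finset.card_univ, ← Nat.card_eq_fintype_card]
        omega
      obtain ⟨a, ha, b, hb, hne⟩ := Finset.one_lt_card.1 hc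
      exact ⟨a, b, Finset.ne_of_mem_erase ha, Finset.ne_of_mem_erase hb, hne⟩
    obtain ⟨c, hc⟩ := isConj_iff.1 (S.involConj (a : G) b (S.two_elt a.2)
      (fun e => ha (Subtype.ext e)) (S.two_elt b.2) (fun e => hb (Subtype.ext e)))
    rw [← hall c a a.2, mul_inv_cancel_right] at hc
    exact hab (Subtype.ext hc)
  have := S.one_lt
  omega

/-- No nontrivial member of the principal block is trivial on an element of the Sylow subgroup. -/
theorem ne_degree {χ : IrrCharacter G} (hχ : χ ∈ principalBlock M G) (h1 : (χ : G → ℂ) ≠ fun _ => 1)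
    {x : G} (hx : x ∈ (P : Subgroup G)) (hx1 : x ≠ 1) : (χ : G → ℂ) x ≠ (χ : G → ℂ) 1 := by
  classical
  intro he
  haveI : Fact (Nat.Prime 2) := ⟨Nat.prime_two⟩
  have hM := S.isPModular
  haveI := res_charP hM
  set L := charKernel (χ : G → ℂ) (isCharacter_of_irr χ.2) with hL
  haveI hLn : L.Normal := ⟨fun g hg t => (mem_charKernel _ _).2 (by
    rw [irr_isClassFun χ, (mem_charKernel _ g).1 hg])⟩
  have hPL := S.le_normal (N := L) hx hx1 ((mem_charKernel _ x).2 he)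
  have hsup := S.sup_centralizer hPL
  set C := Subgroup.centralizer ((P : Subgroup G) : Set G) with hC
  have hodd : Odd (charDegree (χ : G → ℂ)) := by
    rw [Nat.odd_iff, ← Nat.two_dvd_ne_zero]
    exact fun h => P.not_dvd_index (h.trans ((charDegree_dvd_index_kernel χ.2).trans
      (Subgroup.index_dvd_of_le hPL)))
  have hPC : (P : Subgroup G) ≤ C := fun a ha => Subgroup.mem_centralizer_iff.2 fun b hb => S.comm b hb a ha
  have hNC : Subgroup.normalizer (((P.subtype hPC : Sylow 2 C) : Subgroup C) : Set C) ≤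
      Subgroup.centralizer (((P.subtype hPC : Sylow 2 C) : Subgroup C) : Set C) := fun c _ z hz =>
    Subtype.ext (Subgroup.mem_centralizer_iff.1 c.2 z (Subgroup.mem_subgroupOf.1 hz))
  obtain ⟨T, K, hK, hcpl⟩ := CfsgLib.hasNormalPComplement_of_normalizer_le_centralizer _ hNC
  haveI := hK
  haveI : Fintype K := Fintype.ofFinite _
  have hKodd : ¬ 2 ∣ Nat.card K := by
    rw [← hcpl.index_eq_card]; exact T.not_dvd_index
  obtain ⟨j, hj⟩ := T.2.exists_card_eq
  have hreg := AbelianFree.mem_iff_regular (p := 2) Nat.prime_two hKodd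
    (hcpl.symm.index_eq_card.trans hj)
  let f : K →* G ⧸ L := (QuotientGroup.mk' L).comp (C.subtype.comp K.subtype)
  have hfs : Function.Surjective f := by
    intro a
    obtain ⟨g, rfl⟩ := QuotientGroup.mk_surjective a
    have hg : g ∈ L ⊔ C := hsup.ge (Subgroup.mem_top g)
    rw [← SetLike.mem_coe, Subgroup.normal_mul] at hg
    obtain ⟨n, hn, c, hc, rfl⟩ := hg
    obtain ⟨⟨⟨k, hk⟩, ⟨t, ht⟩⟩, htk⟩ := hcpl.surjective ⟨c, hc⟩
    refine ⟨⟨k, hk⟩, ?_⟩
    have htL : (t : G) ∈ L := by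
      obtain ⟨d, hd⟩ := MulAction.exists_smul_eq C (P.subtype hPC) T
      rw [← hd, Sylow.coe_subgroup_smul, SetLike.mem_coe,
        Subgroup.mem_pointwise_smul_iff_inv_smul_mem, Sylow.coe_subtype, Subgroup.mem_subgroupOf] at ht
      have := hLn.conj_mem _ (hPL ht) (d : G)
      simpa [MulAut.smul_def, MulAut.conj_apply, mul_assoc] using this
    show (QuotientGroup.mk (k : G) : G ⧸ L) = QuotientGroup.mk (n * c)
    rw [show c = (k : G) * (t : G) from (congrArg Subtype.val htk).symm, QuotientGroup.mk_mul,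
      QuotientGroup.mk_mul, (QuotientGroup.eq_one_iff n).2 hn, (QuotientGroup.eq_one_iff _).2 htL,
      one_mul, mul_one]
  obtain ⟨ψ, hψ, hψe⟩ := exists_quotient_irr L χ.2 fun n hn => (mem_charKernel _ n).1 hn
  have hirr := isIrrCharacter_comp_surjective hψ f hfs
  have hval : ∀ k : K, ψ (f k) = (χ : G → ℂ) ((k : C) : G) := fun k => (congrFun hψe _).symm
  have hne : (fun k : K => ψ (f k)) ≠ fun _ => 1 := by
    intro e
    refine h1 (funext fun g => ?_)
    obtain ⟨k, hk⟩ := hfs (QuotientGroup.mk g)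
    rw [congrFun hψe g, ← hk]
    exact congrFun e k
  have hsum : ∑ k : K, (χ : G → ℂ) ((k : C) : G)⁻¹ = 0 := by
    have h := classInner_irr (isIrrCharacter_trivial (G := K)) hirr
    rw [if_neg (Ne.symm hne), classInner, mul_eq_zero, or_iff_right (inv_ne_zero
      (Nat.cast_ne_zero.2 Nat.card_pos.ne'))] at h
    rw [← h]
    exact Finset.sum_congr rfl fun k _ => by rw [one_mul, hval, irr_conjInv]
  have hkey : ∑ g ∈ Finset.univ.filter (· ∈ C), regFn 2 (χ : G → ℂ) g =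
      ∑ k : K, (χ : G → ℂ) ((k : C) : G)⁻¹ := by
    rw [Finset.sum_subtype _ (p := (· ∈ C)) (by simp) (regFn 2 (χ : G → ℂ))]
    symm
    rw [← Finset.sum_subtype (Finset.univ.filter (· ∈ K)) (by simp)
      (fun c : C => (χ : G → ℂ) (c : G)⁻¹), Finset.sum_filter]
    refine Finset.sum_congr rfl fun c _ => ?_
    simp only [regFn, Subgroup.orderOf_coe, hreg c]
    by_cases h : 2 ∣ orderOf c <;> simp [h]
  have h := res_oddSum hM hχ
  rw [S.res_oddSum_centralizer χ, hkey, hsum, res_zero] at h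
  exact res_degree_odd hM χ hodd h.symm

/-- A member of the principal block of degree `|P| - 1`. -/
theorem exists_small : ∃ χ : IrrCharacter G, χ ∈ principalBlock M G ∧
    (χ : G → ℂ) ≠ (fun _ => 1) ∧
    (χ : G → ℂ) 1 = (Nat.card (P : Subgroup G) : ℂ) - 1 ∧
    ∀ x ∈ (P : Subgroup G), x ≠ 1 → (χ : G → ℂ) x = -1 := by
  classical
  haveI : Fact (Nat.Prime 2) := ⟨Nat.prime_two⟩
  have hM := S.isPModular
  have hlt := S.one_lt
  set q := Nat.card (P : Subgroup G) with hq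
  haveI : Nontrivial (P : Subgroup G) := Finite.one_lt_card_iff_nontrivial.1 hlt
  obtain ⟨⟨x₀, hx₀⟩, hx₀1⟩ := exists_ne (1 : (P : Subgroup G))
  have hx01 : x₀ ≠ 1 := fun e => hx₀1 (Subtype.ext e)
  obtain ⟨s, w, hsw, hcom, hs, hw, -, -⟩ := exists_pPart Nat.prime_two u
  have hs1 : s ≠ 1 := by
    intro e
    set B := principalBlock M G
    have h1 := block_orth hM (principalBlock_isPBlock (G := G)) (g := x₀) (h := u)
      (pPart_self (S.two_elt hx₀)) ⟨w, hsw, hcom, hs, hw⟩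
      (fun hc => hx01 (isConj_one_left.1 (e ▸ hc)))
    have hk : (q : ℂ) ≠ 0 := Nat.cast_ne_zero.2 (by omega)
    exact hx01 (isConj_one_left.1 (e ▸ isConj_part hM S.const hk ⟨w, hsw, hcom, hs, hw⟩
      (S.two_elt hx₀) hx01))
  obtain ⟨χ, hχ, hχ1, hlt'⟩ : ∃ χ : IrrCharacter G, χ ∈ principalBlock M G ∧
      (χ : G → ℂ) ≠ (fun _ => 1) ∧ charDegree (χ : G → ℂ) < q := by
    by_contra hno
    push Not at hno
    have h := block_orth hM (principalBlock_isPBlock (G := G)) (g := (1 : G)) (h := u)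
      (pPart_one_of_odd (by rw [orderOf_one]; norm_num)) ⟨w, hsw, hcom, hs, hw⟩
      (fun hc => hs1 (isConj_one_right.1 hc))
    rw [← Finset.add_sum_erase _ _ (mem_bset.2 (oneIrr_mem hM) :
      oneIrr G ∈ bset (principalBlock M G))] at h
    have e : ∀ χ ∈ (bset (principalBlock M G)).erase (oneIrr G), (χ : G → ℂ) 1 * (χ : G → ℂ) u⁻¹ =
        ((charDegree (χ : G → ℂ) * (charDegree (χ : G → ℂ) - q) : ℕ) : ℂ) := by
      intro χ hχ
      have hm := mem_bset.1 (Finset.mem_of_mem_erase hχ)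
      have hn := ne_one_iff.2 (Finset.ne_of_mem_erase hχ)
      have hu : (χ : G → ℂ) u = (χ : G → ℂ) 1 - q := by
        rw [← S.const χ hm hn]; ring
      rw [← irr_conjInv, hu, ← irr_charDegree_cast χ, Nat.cast_mul, Nat.cast_sub (hno χ hm hn),
        map_sub, map_natCast, map_natCast]
    rw [Finset.sum_congr rfl e, show ((oneIrr G : IrrCharacter G) : G → ℂ) 1 = 1 from rfl,
      show ((oneIrr G : IrrCharacter G) : G → ℂ) u⁻¹ = 1 from rfl, one_mul, ← Nat.cast_sum,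
      ← Nat.cast_one, ← Nat.cast_add, Nat.cast_eq_zero] at h
    omega
  refine ⟨χ, hχ, hχ1, ?_⟩
  have hconst : ∀ x ∈ (P : Subgroup G), x ≠ 1 → (χ : G → ℂ) x = (χ : G → ℂ) x₀ := by
    intro x hx hx1
    obtain ⟨c, hc⟩ := isConj_iff.1 (S.involConj x₀ x (S.two_elt hx₀) hx01 (S.two_elt hx) hx1)
    rw [← hc, irr_isClassFun χ]
  obtain ⟨⟨n, hn⟩, ⟨n₀, hn₀⟩⟩ :=
    const_mults (P : Subgroup G) S.comm hlt (isCharacter_of_irr χ.2) hconst
  have hn1 : n ≠ 0 := by
    rintro rfl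
    rw [Nat.cast_zero, mul_zero, sub_eq_zero] at hn
    exact S.ne_degree hχ hχ1 hx₀ hx01 hn.symm
  rw [← irr_charDegree_cast χ] at hn hn₀ ⊢
  set d := charDegree (χ : G → ℂ) with hd
  rw [← hq] at hn hn₀
  have hval : (χ : G → ℂ) x₀ = (d : ℂ) - q * n := by rw [← hn]; ring
  rw [hval] at hn₀
  -- in integers
  have hz : (d : ℤ) + ((q : ℤ) - 1) * ((d : ℤ) - q * n) = q * n₀ := by
    have h' : ((((d : ℤ) + ((q : ℤ) - 1) * ((d : ℤ) - q * n)) : ℤ) : ℂ) = (((q : ℤ) * n₀ : ℤ) : ℂ) := by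
      push_cast; exact hn₀
    exact_mod_cast h'
  have hz2 : (q : ℤ) * ((d : ℤ) - ((q : ℤ) - 1) * n) = q * n₀ := by linear_combination hz
  have hz3 : (d : ℤ) - ((q : ℤ) - 1) * n = n₀ := mul_left_cancel₀ (by omega) hz2
  have hn' : n = 1 := by
    by_contra hne
    have h2 : 2 ≤ n := by omega
    have : ((q : ℤ) - 1) * 2 ≤ ((q : ℤ) - 1) * n :=
      mul_le_mul_of_nonneg_left (by exact_mod_cast h2) (by omega)
    omega
  subst hn'
  have hdq : d = q - 1 := by omega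
  refine ⟨by rw [hdq, Nat.cast_sub hlt.le, Nat.cast_one], fun x hx hx1 => ?_⟩
  rw [hconst x hx hx1, hval, hdq, Nat.cast_sub hlt.le]
  push_cast
  ring

theorem no_abelian {N T : Subgroup G} (hN : N.Normal) (hTN : T ≤ N) (hTb : T ≠ ⊥)
    (hTn : ∀ g ∈ N, ∀ x ∈ T, g * x * g⁻¹ ∈ T)
    (hmin : ∀ L : Subgroup G, L ≤ T → L ≠ ⊥ → (∀ g ∈ N, ∀ x ∈ L, g * x * g⁻¹ ∈ L) → L = T)
    (hab : ∀ a ∈ T, ∀ b ∈ T, a * b = b * a) {a : G} (ha : a ∈ T) (ha2 : a * a = 1) (ha1 : a ≠ 1)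
    (hPn : ¬ (P : Subgroup G).Normal) : False := by
  classical
  haveI : Fact (Nat.Prime 2) := ⟨Nat.prime_two⟩
  haveI := hN
  let X : Subgroup G :=
    { carrier := {x | x ∈ T ∧ x * x = 1}
      one_mem' := ⟨T.one_mem, one_mul 1⟩
      mul_mem' := fun {x y} hx hy => ⟨T.mul_mem hx.1 hy.1, by
        rw [mul_assoc, ← mul_assoc y, ← hab x hx.1 y hy.1, mul_assoc x y y, hy.2, mul_one, hx.2]⟩
      inv_mem' := fun {x} hx => ⟨T.inv_mem hx.1, by rw [← mul_inv_rev, hx.2, inv_one]⟩ }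
  have hXT : X = T := hmin X (fun x hx => hx.1)
    (fun e => ha1 (Subgroup.mem_bot.1 (e ▸ (show a ∈ X from ⟨ha, ha2⟩))))
    (fun g hg x hx => ⟨hTn g hg x hx.1, by
      rw [show g * x * g⁻¹ * (g * x * g⁻¹) = g * (x * x) * g⁻¹ by group, hx.2, mul_one,
        mul_inv_cancel]⟩)
  have hT2 : IsPGroup 2 T := fun x => ⟨1, Subtype.ext (by
    show (x : G) ^ (2 ^ 1) = 1
    rw [pow_one, pow_two]
    exact (show (x : G) ∈ X from hXT.ge x.2).2)⟩
  obtain ⟨R, hR⟩ := hT2.exists_le_sylow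
  have hPN : (P : Subgroup G) ≤ N := S.sylow_le (fun e => hTb (le_bot_iff.1 (e ▸ hTN)))
  have hfr := Sylow.normalizer_sup_eq_top' P hPN
  have hle : ∀ g : G, ∃ n ∈ N, g • P = n • P := by
    intro g
    have hg : g ∈ N ⊔ Subgroup.normalizer ((P : Subgroup G) : Set G) := by
      rw [sup_comm]; exact hfr.ge (Subgroup.mem_top g)
    rw [← SetLike.mem_coe, Subgroup.normal_mul] at hg
    obtain ⟨n, hn, m, hm, rfl⟩ := hg
    exact ⟨n, hn, by rw [mul_smul, Sylow.smul_eq_iff_mem_normalizer.2 hm]⟩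
  obtain ⟨g, hg⟩ := MulAction.exists_smul_eq G P R
  obtain ⟨n₀, hn₀, hn₀e⟩ := hle g
  have hTP : T ≤ (P : Subgroup G) := by
    intro x hx
    have h' := hR (hTn n₀ hn₀ x hx)
    rw [← hg, hn₀e, Sylow.coe_subgroup_smul, Subgroup.mem_pointwise_smul_iff_inv_smul_mem] at h'
    simpa [MulAut.smul_def, MulAut.conj_apply, mul_assoc] using h'
  have hTcore : T ≤ (P : Subgroup G).normalCore := by
    intro x hx h
    obtain ⟨n, hn, he⟩ := hle h⁻¹
    have h' : x ∈ ((n • P : Sylow 2 G) : Subgroup G) := by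
      rw [Sylow.coe_subgroup_smul, Subgroup.mem_pointwise_smul_iff_inv_smul_mem]
      have := hTP (hTn n⁻¹ (N.inv_mem hn) x hx)
      simpa [MulAut.smul_def, MulAut.conj_apply, mul_assoc] using this
    rw [← he, Sylow.coe_subgroup_smul, Subgroup.mem_pointwise_smul_iff_inv_smul_mem] at h'
    simpa [MulAut.smul_def, MulAut.conj_apply, mul_assoc] using h'
  refine hPn ?_
  have hP : (P : Subgroup G) = (P : Subgroup G).normalCore :=
    le_antisymm (S.le_normal (N := (P : Subgroup G).normalCore) (hTP ha) ha1 (hTcore ha))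
      (Subgroup.normalCore_le _)
  rw [hP]
  infer_instance

/-- A simple nonabelian normal subgroup containing the Sylow subgroup. -/
theorem exists_simple (hPn : ¬ (P : Subgroup G).Normal) : ∃ N : Subgroup G, N.Normal ∧
    (P : Subgroup G) ≤ N ∧ IsSimpleGroup N ∧ ¬ IsMulCommutative N := by
  classical
  haveI : Fact (Nat.Prime 2) := ⟨Nat.prime_two⟩
  haveI : Nontrivial (P : Subgroup G) := Finite.one_lt_card_iff_nontrivial.1 S.one_lt
  haveI : Nontrivial G := by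
    obtain ⟨a, b, h⟩ := exists_pair_ne (P : Subgroup G)
    exact ⟨⟨a, b, fun e => h (Subtype.ext e)⟩⟩
  obtain ⟨N, ⟨hNn, hNb⟩, hNmin⟩ := exists_minimal_of_wellFoundedLT
    (fun L : Subgroup G => L.Normal ∧ L ≠ ⊥) ⟨⊤, inferInstance, top_ne_bot⟩
  haveI := hNn
  have hPN := S.sylow_le hNb
  let Q : Subgroup G → Prop := fun T => T ≤ N ∧ T ≠ ⊥ ∧ ∀ g ∈ N, ∀ x ∈ T, g * x * g⁻¹ ∈ T
  obtain ⟨T, hT, hTmin⟩ := exists_minimal_of_wellFoundedLT Q
    ⟨N, le_rfl, hNb, fun g _ x hx => Subgroup.Normal.conj_mem inferInstance x hx g⟩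
  have hminT : ∀ L : Subgroup G, L ≤ T → L ≠ ⊥ → (∀ g ∈ N, ∀ x ∈ L, g * x * g⁻¹ ∈ L) → L = T :=
    fun L hL hLb hLn => le_antisymm hL (hTmin ⟨hL.trans hT.1, hLb, hLn⟩ hL)
  have hcore : pPrimeCore 2 N = ⊥ := CfsgLib.AbPrincipal.pPrimeCore_normal_eq_bot S.core N
  have hinv : ∀ U, Q U → ∃ a ∈ U, a * a = 1 ∧ a ≠ 1 := by
    rintro U ⟨hUN, hUb, hUn⟩
    have h2 : 2 ∣ Nat.card U := by
      by_contra h
      refine hUb ?_
      have hn : (U.subgroupOf N).Normal := ⟨fun x hx g => Subgroup.mem_subgroupOf.2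
        (hUn g g.2 x (Subgroup.mem_subgroupOf.1 hx))⟩
      have hle : U.subgroupOf N ≤ pPrimeCore 2 N := le_sSup ⟨hn, by
        rw [Nat.card_congr (Subgroup.subgroupOfEquivOfLe hUN).toEquiv]
        exact (Nat.prime_two.coprime_iff_not_dvd.2 h).symm⟩
      rw [hcore, le_bot_iff, Subgroup.subgroupOf_eq_bot, disjoint_iff, inf_eq_left.2 hUN] at hle
      exact hle
    obtain ⟨⟨a, haU⟩, ha⟩ := exists_prime_orderOf_dvd_card' 2 h2
    have ha' : orderOf a = 2 := by rw [← ha, ← Subgroup.orderOf_coe]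
    exact ⟨a, haU, by rw [← pow_two, ← ha', pow_orderOf_eq_one],
      fun e => by rw [e, orderOf_one] at ha'; norm_num at ha'⟩
  -- the conjugates of `T`
  let cj : G → Subgroup G := fun g => T.map (MulAut.conj g).toMonoidHom
  have hcjQ : ∀ g, Q (cj g) := by
    intro g
    refine ⟨?_, ?_, ?_⟩
    · rintro _ ⟨x, hx, rfl⟩
      exact Subgroup.Normal.conj_mem inferInstance x (hT.1 hx) g
    · intro e
      exact hT.2.1 ((Subgroup.map_eq_bot_iff_of_injective T (MulAut.conj g).injective).1 e)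
    · rintro n hn _ ⟨x, hx, rfl⟩
      refine ⟨g⁻¹ * n * g * x * (g⁻¹ * n * g)⁻¹, hT.2.2 _ ?_ x hx, ?_⟩
      · simpa using hNn.conj_mem n hn g⁻¹
      · simp [mul_assoc]
  have hcjmin : ∀ g L, L ≤ cj g → L ≠ ⊥ → (∀ n ∈ N, ∀ x ∈ L, n * x * n⁻¹ ∈ L) → L = cj g := by
    intro g L hL hLb hLn
    have h := hminT (L.map (MulAut.conj g⁻¹).toMonoidHom) ?_ ?_ ?_
    · rw [show cj g = T.map (MulAut.conj g).toMonoidHom from rfl, ← h, Subgroup.map_map]
      ext x
      simp [mul_assoc]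
    · rintro _ ⟨x, hx, rfl⟩
      obtain ⟨y, hy, rfl⟩ := hL hx
      simpa [mul_assoc] using hy
    · intro e
      exact hLb ((Subgroup.map_eq_bot_iff_of_injective L (MulAut.conj g⁻¹).injective).1 e)
    · rintro n hn _ ⟨x, hx, rfl⟩
      refine ⟨g * n * g⁻¹ * x * (g * n * g⁻¹)⁻¹, hLn _ (hNn.conj_mem n hn g) x hx, ?_⟩
      simp [mul_assoc]
  have hcomm : ∀ g h, cj g ≠ cj h → ∀ a ∈ cj g, ∀ b ∈ cj h, a * b = b * a := by
    intro g h hne a ha b hb
    obtain ⟨hgN, -, hgn⟩ := hcjQ g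
    obtain ⟨hhN, -, hhn⟩ := hcjQ h
    have hbot : cj g ⊓ cj h = ⊥ := by
      by_contra hb'
      have hn : ∀ n ∈ N, ∀ x ∈ cj g ⊓ cj h, n * x * n⁻¹ ∈ cj g ⊓ cj h :=
        fun n hn x hx => ⟨hgn n hn x hx.1, hhn n hn x hx.2⟩
      exact hne ((hcjmin g _ inf_le_left hb' hn).symm.trans (hcjmin h _ inf_le_right hb' hn))
    have hmem : a * b * a⁻¹ * b⁻¹ ∈ cj g ⊓ cj h := by
      refine ⟨?_, (cj h).mul_mem (hhn a (hgN ha) b hb) ((cj h).inv_mem hb)⟩
      have := (cj g).mul_mem ha (hgn b (hhN hb) a⁻¹ ((cj g).inv_mem ha))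
      simpa [mul_assoc] using this
    rw [hbot, Subgroup.mem_bot] at hmem
    exact mul_inv_eq_iff_eq_mul.1 (mul_inv_eq_one.1 hmem)
  have hT1 : cj 1 = T := by ext x; simp [cj]
  have hTnorm : ∀ g, cj g = T := by
    intro g₀
    by_contra hne
    obtain ⟨a, haT, ha2, ha1⟩ := hinv T hT
    obtain ⟨b, hbT, hb2, hb1⟩ := hinv _ (hcjQ g₀)
    have hne' : cj 1 ≠ cj g₀ := by rw [hT1]; exact Ne.symm hne
    have hab := hcomm 1 g₀ hne' a (hT1.symm ▸ haT) b hbT
    have hdis : ∀ x, x ∈ T → x ∈ cj g₀ → x = 1 := by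
      intro x hx1 hx2
      by_contra hx
      have hb' : T ⊓ cj g₀ ≠ ⊥ := fun e => hx (Subgroup.mem_bot.1 (e ▸ ⟨hx1, hx2⟩))
      have hn : ∀ n ∈ N, ∀ x ∈ T ⊓ cj g₀, n * x * n⁻¹ ∈ T ⊓ cj g₀ :=
        fun n hn x hx => ⟨hT.2.2 n hn x hx.1, (hcjQ g₀).2.2 n hn x hx.2⟩
      exact hne ((hcjmin g₀ _ inf_le_right hb' hn).symm.trans (hminT _ inf_le_left hb' hn))
    have hc2 : a * b * (a * b) = 1 := by
      rw [mul_assoc, ← mul_assoc b, ← hab, mul_assoc a b b, hb2, mul_one, ha2]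
    have hc1 : a * b ≠ 1 := fun e => ha1 (hdis a haT (by
      rw [eq_inv_of_mul_eq_one_left e]; exact Subgroup.inv_mem _ hbT))
    obtain ⟨h, hh⟩ := isConj_iff.1 (S.involConj a (a * b)
      ⟨1, by rw [pow_one]; exact orderOf_eq_prime (by rw [pow_two]; exact ha2) ha1⟩ ha1
      ⟨1, by rw [pow_one]; exact orderOf_eq_prime (by rw [pow_two]; exact hc2) hc1⟩ hc1)
    have hcmem : a * b ∈ cj h := ⟨a, haT, hh⟩
    have hn1 : cj h ≠ cj 1 := by
      rw [hT1]
      intro e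
      have hab' : a * b ∈ T := e ▸ hcmem
      exact hb1 (hdis b ((T.mul_mem_cancel_left haT).1 hab') hbT)
    have hn2 : cj h ≠ cj g₀ := by
      intro e
      have hab' : a * b ∈ cj g₀ := e ▸ hcmem
      exact ha1 (hdis a haT (((cj g₀).mul_mem_cancel_right hbT).1 hab'))
    -- `cj h` lies in the product of the other two
    have hsub : cj h ≤ T ⊔ cj g₀ := by
      have hb' : cj h ⊓ (T ⊔ cj g₀) ≠ ⊥ := fun e => hc1 (Subgroup.mem_bot.1 (e ▸
        ⟨hcmem, Subgroup.mul_mem _ ((le_sup_left : T ≤ T ⊔ cj g₀) haT)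
          ((le_sup_right : cj g₀ ≤ T ⊔ cj g₀) hbT)⟩))
      have hn : ∀ n ∈ N, ∀ x ∈ cj h ⊓ (T ⊔ cj g₀), n * x * n⁻¹ ∈ cj h ⊓ (T ⊔ cj g₀) := by
        intro n hn x hx
        refine ⟨(hcjQ h).2.2 n hn x hx.1, ?_⟩
        have : (T ⊔ cj g₀).map (MulAut.conj n).toMonoidHom ≤ T ⊔ cj g₀ := by
          rw [Subgroup.map_sup]
          refine sup_le_sup ?_ ?_
          · rintro _ ⟨y, hy, rfl⟩; exact hT.2.2 n hn y hy
          · rintro _ ⟨y, hy, rfl⟩; exact (hcjQ g₀).2.2 n hn y hy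
        exact this ⟨x, hx.2, rfl⟩
      exact (hcjmin h _ inf_le_left hb' hn).ge.trans inf_le_right
    have hab2 : ∀ x ∈ cj h, ∀ y ∈ cj h, x * y = y * x := by
      intro x hx y hy
      have h1 : T ⊔ cj g₀ ≤ Subgroup.centralizer ({x} : Set G) := by
        refine sup_le ?_ ?_
        · intro z hz
          exact Subgroup.mem_centralizer_singleton_iff.2 (hcomm h 1 hn1 x hx z (hT1.symm ▸ hz)).symm
        · intro z hz
          exact Subgroup.mem_centralizer_singleton_iff.2 (hcomm h g₀ hn2 x hx z hz).symm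
      exact (Subgroup.mem_centralizer_singleton_iff.1 (h1 (hsub hy))).symm
    obtain ⟨hQN, hQb, hQn⟩ := hcjQ h
    exact S.no_abelian hNn hQN hQb hQn (hcjmin h) hab2 hcmem hc2 hc1 hPn
  have hTn : T.Normal := ⟨fun x hx g => by
    have : g * x * g⁻¹ ∈ cj g := ⟨x, hx, rfl⟩
    rwa [hTnorm g] at this⟩
  have hTN : T = N := le_antisymm hT.1 (hNmin ⟨hTn, hT.2.1⟩ hT.1)
  subst hTN
  haveI : Nontrivial T := (Subgroup.nontrivial_iff_ne_bot T).2 hNb
  refine ⟨T, hNn, hPN, ⟨fun L hL => ?_⟩, fun hc => ?_⟩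
  · by_cases hLb : L = ⊥
    · exact Or.inl hLb
    refine Or.inr ?_
    have hL' : L.map T.subtype = T := hminT _ (Subgroup.map_subtype_le L)
      (fun e => hLb ((Subgroup.map_eq_bot_iff_of_injective L T.subtype_injective).1 e))
      (by
        rintro g hg _ ⟨x, hx, rfl⟩
        exact ⟨⟨g, hg⟩ * x * ⟨g, hg⟩⁻¹, hL.conj_mem x hx _, rfl⟩)
    apply Subgroup.map_injective T.subtype_injective
    rw [hL', ← MonoidHom.range_eq_map, Subgroup.range_subtype]
  · obtain ⟨a, ha, ha2, ha1⟩ := hinv T hT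
    exact S.no_abelian hNn le_rfl hT.2.1 hT.2.2 hminT
      (fun x hx y hy => congrArg Subtype.val (hc.is_comm.comm ⟨x, hx⟩ ⟨y, hy⟩)) ha ha2 ha1 hPn

end Setup

end CfsgLib.ConstDiff
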