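import Cfsg.Agent.Lib.ConstDiff.Degree
import Cfsg.Agent.Lib.WalterUse.Engine
import Cfsg.Agent.Lib.GW.IIb.FourModel
import Cfsg.Agent.Lib.J1.Order
import Cfsg.Agent.Lib.DicksonFull.Subgroups
import Cfsg.Agent.S0252
import Cfsg.Agent.S0494

/-!
# Constant difference: the simple groups with a character of degree `|P| - 1`
-/

namespace CfsgLib.ConstDiff

open Cfsg CfsgLib.CharTheory CfsgLib.Blocks
open scoped ComplexConjugate

set_option linter.unusedVariables false
set_option linter.style.haveILetI false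
set_option linter.unusedSectionVars false

universe u

/-- A representation of a simple group that is not trivial is injective. -/
theorem rep_injective {L : Type u} [Group L] [IsSimpleGroup L] {n : ℕ}
    (ρ : Representation ℂ L (Fin n → ℂ)) (h : ∃ l, ρ l ≠ 1) : Function.Injective ρ := by
  let K : Subgroup L :=
    { carrier := {l | ρ l = 1}
      one_mem' := map_one ρ
      mul_mem' := fun {a b} ha hb => by
        show ρ (a * b) = 1
        rw [map_mul, ha, hb, one_mul]
      inv_mem' := fun {a} ha => by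
        show ρ a⁻¹ = 1
        have := map_mul ρ a⁻¹ a
        rw [inv_mul_cancel, map_one, ha, mul_one] at this
        exact this.symm }
  have hK : K.Normal := ⟨fun a ha g => by
    show ρ (g * a * g⁻¹) = 1
    rw [map_mul, map_mul, ha, mul_one, ← map_mul, mul_inv_cancel, map_one]⟩
  have hb : K = ⊥ := (IsSimpleGroup.eq_bot_or_eq_top_of_normal K hK).resolve_right fun e => by
    obtain ⟨l, hl⟩ := h
    exact hl (show l ∈ K from e ▸ Subgroup.mem_top l)
  intro a b e
  have hmem : a⁻¹ * b ∈ K := by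
    show ρ (a⁻¹ * b) = 1
    rw [map_mul, ← e, ← map_mul, inv_mul_cancel, map_one]
  rw [hb, Subgroup.mem_bot] at hmem
  exact inv_mul_eq_one.1 hmem

/-- A group containing `PSL₂(r)` has no small nontrivial representation. -/
theorem psl_le {L : Type u} [Group L] [IsSimpleGroup L] {n : ℕ}
    (ρ : Representation ℂ L (Fin n → ℂ)) (h : ∃ l, ρ l ≠ 1) {F : Type} [Field F] [Fintype F]
    (hodd : Odd (Fintype.card F)) (h5 : 5 ≤ Fintype.card F)
    (E : Matrix.ProjectiveSpecialLinearGroup (Fin 2) F →* L) (hE : Function.Injective E) :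
    (Fintype.card F - 1) / 2 ≤ n := by
  classical
  refine CfsgLib.GW.IIbFinal.min_degree hodd h5 (MonoidHom.ofInjective hE).symm n (ρ.comp E.range.subtype) ?_
  haveI : IsSimpleGroup (Matrix.ProjectiveSpecialLinearGroup (Fin 2) F) :=
    Matrix.ProjectiveSpecialLinearGroup.rank_two_simple (by rw [Nat.card_eq_fintype_card]; omega)
  obtain ⟨a, ha⟩ := exists_ne (1 : Matrix.ProjectiveSpecialLinearGroup (Fin 2) F)
  exact ⟨⟨E a, a, rfl⟩, fun e => ha (hE (by
    rw [map_one]; exact rep_injective ρ h (e.trans (map_one ρ).symm)))⟩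

/-- The 2-part of a number given as a product. -/
theorem fac_two (j o : ℕ) (ho : ¬ 2 ∣ o) : (2 ^ j * o).factorization 2 = j := by
  rw [Nat.factorization_mul (by positivity) (by rintro rfl; exact ho (dvd_zero 2)),
    Finsupp.add_apply, Nat.factorization_eq_zero_of_not_dvd ho, add_zero,
    Nat.prime_two.factorization_pow, Finsupp.single_eq_same]

theorem arith_eleven (r k : ℕ) (hd : r ∣ 10) (hm : 11 * r * k = 175560) (hk : k % 11 = 1) : r = 10 := by
  have h := Nat.mem_divisors.2 ⟨hd, by norm_num⟩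
  rw [show Nat.divisors 10 = {1, 2, 5, 10} by decide] at h
  simp only [Finset.mem_insert, Finset.mem_singleton] at h
  rcases h with rfl | rfl | rfl | rfl <;> omega

/-- All nontrivial powers of an element of order eleven are conjugate, in a group with the order and
the centraliser of `J1`. -/
theorem eleven_aux {G : Type} [Group G] [Finite G] (hG : Nat.card G = 175560)
    (hnc : ∀ {x y : G}, orderOf x = 11 → ∀ {d : ℕ}, d.Prime → d ≠ 11 → orderOf y = d → ¬ Commute x y) :
    ∃ x : G, orderOf x = 11 ∧ ∀ i : ℕ, ¬ 11 ∣ i → IsConj x (x ^ i) := by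
  classical
  haveI : Fact (Nat.Prime 11) := ⟨by norm_num⟩
  obtain ⟨x, hx⟩ := exists_prime_orderOf_dvd_card' (G := G) 11 (by rw [hG]; norm_num)
  refine ⟨x, hx, fun i hi => ?_⟩
  let P : Sylow 11 G := default
  have hv : (175560 : ℕ).factorization 11 = 1 := by
    rw [show (175560 : ℕ) = 11 * 15960 by norm_num, Nat.factorization_mul (by norm_num) (by norm_num),
      Finsupp.add_apply, Nat.Prime.factorization_self (by norm_num),
      Nat.factorization_eq_zero_of_not_dvd (show ¬ 11 ∣ 15960 by norm_num)]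
  obtain ⟨Q, hQ⟩ := (IsPGroup.of_card (p := 11) (n := 1) (G := Subgroup.zpowers x)
    (by rw [Nat.card_zpowers, hx, pow_one])).exists_le_sylow
  have hQc : Nat.card (Q : Subgroup G) = 11 := by
    rw [Q.card_eq_multiplicity, hG, hv, pow_one]
  have hQx : (Q : Subgroup G) = Subgroup.zpowers x :=
    (Subgroup.eq_of_le_of_card_ge hQ (by rw [Nat.card_zpowers, hx, hQc])).symm
  set C := Subgroup.centralizer ((Q : Subgroup G) : Set G) with hC
  have hCp : IsPGroup 11 C := by
    refine IsPGroup.of_card (n := (Nat.card C).primeFactorsList.length)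
      (Nat.eq_prime_pow_of_unique_prime_dvd Nat.card_pos.ne' fun {d} hd hdd => ?_)
    by_contra hne
    haveI : Fact d.Prime := ⟨hd⟩
    obtain ⟨z, hzo⟩ := exists_prime_orderOf_dvd_card' d hdd
    rw [← Subgroup.orderOf_coe] at hzo
    exact hnc hx hd hne hzo (Subgroup.mem_centralizer_iff.1 z.2 x
      (SetLike.mem_coe.2 (hQx ▸ Subgroup.mem_zpowers x)))
  have hCQ : C = (Q : Subgroup G) := by
    haveI : IsCyclic (Q : Subgroup G) := isCyclic_of_prime_card hQc
    have hle : (Q : Subgroup G) ≤ C := Subgroup.le_centralizer _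
    exact (Q.is_maximal' hCp hle)
  set N := Subgroup.normalizer ((Q : Subgroup G) : Set G) with hN
  set φ := (Q : Subgroup G).normalizerMonoidHom with hφ
  haveI : IsCyclic (Q : Subgroup G) := isCyclic_of_prime_card hQc
  have haut : Nat.card (MulAut (Q : Subgroup G)) = 10 := by
    rw [IsCyclic.card_mulAut, hQc, Nat.totient_prime (by norm_num)]
  have hker : φ.ker.index = Nat.card φ.range := Subgroup.index_ker φ
  have hkc : Nat.card φ.ker = 11 := by
    rw [hφ, Subgroup.normalizerMonoidHom_ker, Nat.card_congr (Subgroup.subgroupOfEquivOfLe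
      (Subgroup.centralizer_le_normalizer _)).toEquiv, ← hC, hCQ, hQc]
  have hsyl := Sylow.card_eq_index_normalizer Q
  have hmod := card_sylow_modEq_one 11 G
  have hNc : Nat.card N = 11 * Nat.card φ.range := by
    rw [← Subgroup.card_mul_index φ.ker, hkc, hker]
  have hmul := Subgroup.card_mul_index N
  rw [hNc, hG] at hmul
  rw [hsyl, Nat.ModEq] at hmod
  have hdvd : Nat.card φ.range ∣ 10 := haut ▸ Subgroup.card_subgroup_dvd_card φ.range
  have hle10 := Nat.le_of_dvd (by norm_num) hdvd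
  have hr : Nat.card φ.range = 10 := arith_eleven _ _ hdvd hmul (by rw [hN]; simpa using hmod)
  have htop : φ.range = ⊤ := Subgroup.eq_top_of_card_eq _ (by rw [hr, haut])
  have hcop : (Nat.card (Q : Subgroup G)).Coprime i := by
    rw [hQc]; exact (by norm_num : Nat.Prime 11).coprime_iff_not_dvd.2 hi
  letI : CommGroup (Q : Subgroup G) := IsCyclic.commGroup
  let β : MulAut (Q : Subgroup G) :=
    { powCoprime hcop with map_mul' := fun a b => mul_pow a b i }
  obtain ⟨n, hn⟩ : β ∈ φ.range := htop ▸ Subgroup.mem_top β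
  refine isConj_iff.2 ⟨n, ?_⟩
  exact congrArg Subtype.val (DFunLike.congr_fun hn ⟨x, hQx ▸ Subgroup.mem_zpowers x⟩)

theorem j1_eleven : ∃ x : ↥Cfsg.Spor.J1, orderOf x = 11 ∧
    ∀ i : ℕ, ¬ 11 ∣ i → IsConj x (x ^ i) := by
  haveI : Finite ↥Cfsg.Spor.J1 := Nat.finite_of_card_ne_zero (by rw [CfsgLib.J1.card_J1]; norm_num)
  refine eleven_aux CfsgLib.J1.card_J1 fun {x y} hx {d} hd hne hy =>
    CfsgLib.J1.not_commute ((Nat.coprime_primes (by norm_num) hd).2 (Ne.symm hne)) (fun e he hdiv => ?_) hx hy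
  have h11 : 11 ∣ e := (dvd_mul_right 11 d).trans hdiv
  simp [CfsgLib.J1.expo] at he
  rcases he with rfl | rfl | rfl | rfl | rfl | rfl <;> norm_num at h11
  have := Nat.le_of_dvd (by norm_num) hdiv
  have := hd.two_le
  omega

/-- A group of `J1` type has no representation of degree less than ten. -/
theorem j1_le {L : Type u} [Group L] [Fintype L] [IsSimpleGroup L] (hJ : Cfsg.Spor.IsoJ1 L) {n : ℕ}
    (ρ : Representation ℂ L (Fin n → ℂ)) (h : ∃ l, ρ l ≠ 1) : 10 ≤ n := by
  classical
  obtain ⟨e⟩ := hJ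
  obtain ⟨x, hx, hconj⟩ := j1_eleven
  set y := e.symm x with hy
  have hyo : orderOf y = 11 := by rw [hy, MulEquiv.orderOf_eq, hx]
  have hy1 : y ≠ 1 := fun e' => by rw [e', orderOf_one] at hyo; norm_num at hyo
  have hF : IsCharacter L ρ.character := ⟨n, ρ, rfl⟩
  have ha : ∀ z ∈ Subgroup.zpowers y, z ≠ 1 → ρ.character z = ρ.character y := by
    intro z hz hz1
    obtain ⟨i, rfl⟩ := mem_powers_iff_mem_zpowers.2 hz
    have hi : ¬ 11 ∣ i := fun hd => hz1 (orderOf_dvd_iff_pow_eq_one.1 (hyo ▸ hd))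
    obtain ⟨c, hc⟩ := isConj_iff.1 (hconj i hi)
    show ρ.character (y ^ i) = _
    rw [hy, ← map_pow, ← hc, map_mul, map_mul, map_inv, Representation.char_conj]
  obtain ⟨⟨m, hm⟩, ⟨m₀, hm₀⟩⟩ := const_mults (Subgroup.zpowers y)
    (fun a ha b hb => by
      obtain ⟨i, rfl⟩ := ha
      obtain ⟨j, rfl⟩ := hb
      exact ((Commute.refl y).zpow_zpow i j).eq)
    (by rw [Nat.card_zpowers, hyo]; norm_num) hF ha
  have hm0 : m ≠ 0 := by
    rintro rfl
    rw [Nat.cast_zero, mul_zero, sub_eq_zero, ρ.char_one, eq_comm] at hm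
    exact hy1 (rep_injective ρ h (((character_eq_finrank_iff ρ y).1 hm).trans (map_one ρ).symm))
  rw [Nat.card_zpowers, hyo, ρ.char_one, Module.finrank_fin_fun] at hm hm₀
  have hn : (n : ℂ) = ((10 * m + m₀ : ℕ) : ℂ) := by
    push_cast
    linear_combination ((10 : ℂ) / 11) * hm + ((1 : ℂ) / 11) * hm₀
  have : n = 10 * m + m₀ := by exact_mod_cast hn
  omega

/-- The simple groups with a nontrivial representation of degree one less than the order of an
abelian Sylow 2-subgroup. -/
theorem psl_of_small {L : Type u} [Group L] [Fintype L] [IsSimpleGroup L]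
    (hna : ¬ IsMulCommutative L) (S : Sylow 2 L) (hS : IsMulCommutative (S : Subgroup L)) {n : ℕ}
    (hn : n + 1 = Nat.card (S : Subgroup L)) (ρ : Representation ℂ L (Fin n → ℂ))
    (h : ∃ l, ρ l ≠ 1) :
    ∃ (F : Type) (_ : Field F) (_ : Fintype F) (a : ℕ), 2 ≤ a ∧ Fintype.card F = 2 ^ a ∧
      Nonempty (L ≃* Matrix.ProjectiveSpecialLinearGroup (Fin 2) F) := by
  classical
  haveI : Fact (Nat.Prime 2) := ⟨Nat.prime_two⟩
  cases CfsgLib.WalterUse.abKind CfsgLib.WalterUse.orderClass
      (fun X _ _ => CfsgLib.Walter.p_all X) hna S hS with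
  | janko hJ =>
    exfalso
    have h10 := j1_le hJ ρ h
    obtain ⟨e⟩ := hJ
    have h8 : Nat.card (S : Subgroup L) = 2 ^ 3 := by
      rw [S.card_eq_multiplicity, Nat.card_congr e.toEquiv, CfsgLib.J1.card_J1,
        show (175560 : ℕ) = 2 ^ 3 * 21945 by norm_num, fac_two 3 21945 (by norm_num)]
    omega
  | ree hR =>
    exfalso
    obtain ⟨F, _, _, _, C, hq, R⟩ := hR
    obtain ⟨m, hm, hcq⟩ := R.pow
    have hFq : Fintype.card F = 3 ^ (2 * m + 1) := by rw [← hq, hcq]
    have h27 : 27 ≤ Fintype.card F := by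
      rw [hFq]
      exact le_trans (by norm_num) (Nat.pow_le_pow_right (by norm_num) (show 3 ≤ 2 * m + 1 by omega))
    have hle := psl_le ρ h (hFq ▸ (by decide : Odd 3).pow) (by omega) C.E C.E_inj
    have h8 : Nat.card (S : Subgroup L) = 2 ^ 3 := by
      rw [S.card_eq_multiplicity, R.card, hcq]
      have h8q : (3 ^ (2 * m + 1)) % 8 = 3 := by
        rw [pow_succ, pow_mul, Nat.mul_mod, Nat.pow_mod]; norm_num
      obtain ⟨k, hk⟩ : ∃ k, 3 ^ (2 * m + 1) = 8 * k + 3 := ⟨3 ^ (2 * m + 1) / 8, by omega⟩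
      rw [hk, show (8 * k + 3) ^ 3 * ((8 * k + 3) ^ 3 + 1) * (8 * k + 3 - 1) = 2 ^ 3 *
        ((8 * k + 3) ^ 3 * (128 * k ^ 3 + 144 * k ^ 2 + 54 * k + 7) * (4 * k + 1)) by
          rw [show 8 * k + 3 - 1 = 8 * k + 2 by omega]; ring,
        fac_two]
      simp [← even_iff_two_dvd, parity_simps]
    omega
  | psl F h4 hq e =>
    rcases hq with ⟨a, ha⟩ | h8
    · refine ⟨F, inferInstance, inferInstance, a, ?_, ha, ⟨e⟩⟩
      by_contra hlt
      have : (2 : ℕ) ^ a ≤ 2 ^ 1 := Nat.pow_le_pow_right (by norm_num) (by omega)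
      omega
    · have hodd : Odd (Fintype.card F) := Nat.odd_iff.2 (by omega)
      have hle := psl_le ρ h hodd (by omega) e.symm.toMonoidHom e.symm.injective
      have hcard := DicksonFull.card_psl (F := F)
      rw [Nat.gcd_eq_left (by omega : 2 ∣ Fintype.card F - 1), ← Nat.card_congr e.toEquiv] at hcard
      have h4S : Nat.card (S : Subgroup L) = 4 := by
        rw [S.card_eq_multiplicity]
        obtain ⟨k, r, hk, hr⟩ : ∃ k r, Fintype.card F = 8 * k + r ∧ (r = 3 ∨ r = 5) :=
          ⟨Fintype.card F / 8, Fintype.card F % 8, (Nat.div_add_mod _ 8).symm, h8⟩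
        have hv : ∀ o : ℕ, ¬ 2 ∣ o → Nat.card L = 2 ^ 2 * o → 2 ^ (Nat.card L).factorization 2 = 4 := by
          intro o ho hL
          rw [hL, fac_two 2 o ho]
          norm_num
        rcases hr with rfl | rfl
        · refine hv ((8 * k + 3) * (8 * k ^ 2 + 6 * k + 1)) (by
            rw [Nat.dvd_iff_mod_eq_zero]; simp [Nat.mul_mod, Nat.add_mod, Nat.pow_mod]) ?_
          rw [hk, show (8 * k + 3) ^ 2 - 1 = 8 * (8 * k ^ 2 + 6 * k + 1) by
            rw [show (8 * k + 3) ^ 2 = 8 * (8 * k ^ 2 + 6 * k + 1) + 1 by ring]; rfl] at hcard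
          linarith
        · refine hv ((8 * k + 5) * (8 * k ^ 2 + 10 * k + 3)) (by
            rw [Nat.dvd_iff_mod_eq_zero]; simp [Nat.mul_mod, Nat.add_mod, Nat.pow_mod]) ?_
          rw [hk, show (8 * k + 5) ^ 2 - 1 = 8 * (8 * k ^ 2 + 10 * k + 3) by
            rw [show (8 * k + 5) ^ 2 = 8 * (8 * k ^ 2 + 10 * k + 3) + 1 by ring]; rfl] at hcard
          linarith
      have hq5 : Fintype.card F = 5 := by omega
      have h60 : Nat.card L = 60 := by
        rw [hq5] at hcard; norm_num at hcard; rw [Nat.card_eq_fintype_card]; omega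
      letI : Fintype (GaloisField 2 2) := Fintype.ofFinite _
      have hF4 : Fintype.card (GaloisField 2 2) = 2 ^ 2 := by
        rw [← Nat.card_eq_fintype_card, GaloisField.card 2 2 (by norm_num)]
      obtain ⟨e1⟩ := Cfsg.Agent.S0494.result h60
      obtain ⟨e2⟩ := Cfsg.Agent.S0252.result (F := GaloisField 2 2) (by rw [hF4]; norm_num)
      exact ⟨GaloisField 2 2, inferInstance, inferInstance, 2, le_rfl, hF4, ⟨e1.trans e2.symm⟩⟩

end CfsgLib.ConstDiff
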