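import Cfsg.Agent.Lib.ConstDiff.Exclude
import Cfsg.Agent.Lib.AbPrincipal.Psl

/-!
# Constant difference: the classification without odd core
-/

namespace CfsgLib.ConstDiff

open Cfsg CfsgLib.CharTheory CfsgLib.Blocks
open scoped ComplexConjugate

set_option linter.unusedVariables false
set_option linter.style.haveILetI false
set_option linter.unusedSectionVars false

universe u

section psl

variable {F : Type} [Field F] [Fintype F] [CharP F 2]

local notation "PSL" => Matrix.ProjectiveSpecialLinearGroup (Fin 2) F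

theorem card_sylow_psl {K : Type u} [Group K] [Finite K] (e : K ≃* PSL) (T : Sylow 2 K) :
    Nat.card (T : Subgroup K) = Fintype.card F := by
  classical
  haveI : Fact (Nat.Prime 2) := ⟨Nat.prime_two⟩
  haveI := Fintype.ofFinite PSL
  rw [← DicksonFull.card_uSylow (F := F) 2, T.card_eq_multiplicity, Sylow.card_eq_multiplicity,
    Nat.card_congr e.toEquiv]

/-- The involutions of `PSL₂(2ⁿ)` are conjugate. -/
theorem psl_conj {g : PSL} (hg : orderOf g = 2) : IsConj (PSL2.uu (1 : F)) g := by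
  classical
  haveI : Fact (Nat.Prime 2) := ⟨Nat.prime_two⟩
  haveI := Fintype.ofFinite PSL
  obtain ⟨T, hT⟩ := (IsPGroup.of_card (p := 2) (n := 1) (G := Subgroup.zpowers g)
    (by rw [Nat.card_zpowers, hg, pow_one])).exists_le_sylow
  obtain ⟨c, hc⟩ := MulAction.exists_smul_eq PSL (PSL2.uSylow (F := F) 2) T
  have hgT := hT (Subgroup.mem_zpowers g)
  rw [← hc, Sylow.coe_subgroup_smul, Subgroup.mem_pointwise_smul_iff_inv_smul_mem] at hgT
  obtain ⟨t, ht⟩ := AbPrincipal.mem_uSylow.1 hgT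
  simp only [MulAut.smul_def, ← map_inv, MulAut.conj_apply, inv_inv] at ht
  have ht0 : t ≠ 0 := by
    rintro rfl
    have h1 : (1 : PSL) = c⁻¹ * g * c := by
      rw [← ht]; exact (map_one (PSL2.uHom (F := F))).symm
    have : g = 1 := by
      calc g = c * (c⁻¹ * g * c) * c⁻¹ := by group
        _ = 1 := by rw [← h1, mul_one, mul_inv_cancel]
    rw [this, orderOf_one] at hg
    norm_num at hg
  obtain ⟨s, hs⟩ := FiniteField.isSquare_of_char_two (ringChar.eq F 2) t
  have hs0 : s ≠ 0 := fun e => ht0 (by rw [hs, e, mul_zero])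
  refine isConj_iff.2 ⟨c * AbPrincipal.torus (Units.mk0 s hs0), ?_⟩
  rw [mul_inv_rev, ← mul_assoc, mul_assoc c, AbPrincipal.torus_uu, mul_assoc c, mul_assoc (PSL2.uu _),
    mul_inv_cancel, mul_one, Units.val_mk0, mul_one, ← hs, ht]
  group

theorem conj_of_involutions {K : Type u} [Group K] [Finite K] (e : K ≃* PSL) {x y : K}
    (hx : orderOf x = 2) (hy : orderOf y = 2) : IsConj x y := by
  have h := (psl_conj (g := e x) (by rw [MulEquiv.orderOf_eq, hx])).symm.trans
    (psl_conj (g := e y) (by rw [MulEquiv.orderOf_eq, hy]))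
  obtain ⟨c, hc⟩ := isConj_iff.1 h
  refine isConj_iff.2 ⟨e.symm c, e.injective ?_⟩
  rw [map_mul, map_mul, map_inv, e.apply_symm_apply, hc]

theorem card_cent_psl {K : Type u} [Group K] [Finite K] (e : K ≃* PSL) {x : K} (hx : orderOf x = 2) :
    Nat.card (Subgroup.centralizer ({x} : Set K)) = Fintype.card F := by
  classical
  haveI : Fact (Nat.Prime 2) := ⟨Nat.prime_two⟩
  haveI := Fintype.ofFinite PSL
  rw [← DicksonFull.card_cent (F := F) 2 (u := e x) (by rw [MulEquiv.orderOf_eq, hx])]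
  refine Nat.card_congr (e.toEquiv.subtypeEquiv fun y => ?_)
  rw [DicksonFull.cent, Subgroup.mem_centralizer_singleton_iff, Subgroup.mem_centralizer_singleton_iff,
    MulEquiv.toEquiv_eq_coe, MulEquiv.coe_toEquiv, ← map_mul, ← map_mul, e.injective.eq_iff]

end psl

variable {M : Ideal AlgInt} {G : Type u} [Group G] [Fintype G]

theorem Setup.classify {P : Sylow 2 G} {u : G} (S : Setup M P u) :
    Nat.card G = 2 ∨ ((∃ (F : Type) (_ : Field F) (_ : Fintype F) (n : ℕ), 2 ≤ n ∧
      Fintype.card F = 2 ^ n ∧ Nonempty (G ≃* Matrix.ProjectiveSpecialLinearGroup (Fin 2) F)) ∧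
      u * u = 1) := by
  classical
  by_cases hPn : (P : Subgroup G).Normal
  · exact Or.inl (S.eq_two_of_normal hPn)
  refine Or.inr ?_
  haveI : Fact (Nat.Prime 2) := ⟨Nat.prime_two⟩
  have hM := S.isPModular
  have hlt := S.one_lt
  set q := Nat.card (P : Subgroup G) with hq
  haveI : Nontrivial (P : Subgroup G) := Finite.one_lt_card_iff_nontrivial.1 hlt
  obtain ⟨⟨x₀, hx₀⟩, hx₀1⟩ := exists_ne (1 : (P : Subgroup G))
  have hx01 : x₀ ≠ 1 := fun e => hx₀1 (Subtype.ext e)
  have hord : ∀ {x : G}, x ∈ (P : Subgroup G) → x ≠ 1 → orderOf x = 2 := fun hx hx1 =>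
    orderOf_eq_prime (by rw [pow_two]; exact S.sq _ hx) hx1
  obtain ⟨N, hN, hPN, hsimple, hna⟩ := S.exists_simple hPn
  haveI := hN
  obtain ⟨χ, hχ, hχ1, hd, hval⟩ := S.exists_small
  have hchar := isCharacter_of_irr χ.2
  obtain ⟨m, ρ, hρ⟩ := hchar
  have hm : m + 1 = q := by
    have h : (m : ℂ) = (q : ℂ) - 1 := by
      rw [← hd, ← hρ, ρ.char_one, Module.finrank_fin_fun]
    have : ((m + 1 : ℕ) : ℂ) = (q : ℂ) := by rw [Nat.cast_add, h, Nat.cast_one]; ring
    exact_mod_cast this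
  have hne1 : (χ : G → ℂ) x₀ ≠ (χ : G → ℂ) 1 := S.ne_degree hχ hχ1 hx₀ hx01
  haveI : Fintype N := Fintype.ofFinite _
  set T : Sylow 2 N := P.subtype hPN with hT
  have hTq : Nat.card (T : Subgroup N) = q := Nat.card_congr (Subgroup.subgroupOfEquivOfLe hPN).toEquiv
  have hTc : IsMulCommutative (T : Subgroup N) := ⟨⟨fun a b => Subtype.ext (Subtype.ext
    (S.comm _ (Subgroup.mem_subgroupOf.1 a.2) _ (Subgroup.mem_subgroupOf.1 b.2)))⟩⟩
  obtain ⟨F, iF, iFt, a, ha2, hcard, ⟨e⟩⟩ := psl_of_small hna T hTc (hm.trans hTq.symm)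
    (ρ.comp N.subtype) ⟨⟨x₀, hPN hx₀⟩, fun h => hne1 (by
      rw [← hρ, ρ.char_one]
      exact (character_eq_finrank_iff ρ x₀).2 h)⟩
  haveI : CharP F 2 := charP_of_card_eq_prime_pow hcard
  haveI := Fintype.ofFinite (Matrix.ProjectiveSpecialLinearGroup (Fin 2) F)
  have hFq : Fintype.card F = q := by rw [← hTq, card_sylow_psl e T]
  have hordN : ∀ {x : G} (hx : x ∈ (P : Subgroup G)), x ≠ 1 → orderOf (⟨x, hPN hx⟩ : N) = 2 :=
    fun hx hx1 => by rw [Subgroup.orderOf_mk]; exact hord hx hx1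
  -- the centraliser in `N` of an involution of `P`
  have hcent : ∀ {x : G}, x ∈ (P : Subgroup G) → x ≠ 1 → ∀ y ∈ N, y * x = x * y →
      y ∈ (P : Subgroup G) := by
    intro x hx hx1 y hy hxy
    set x' : N := ⟨x, hPN hx⟩
    have hle : (T : Subgroup N) ≤ Subgroup.centralizer ({x'} : Set N) := fun z hz =>
      Subgroup.mem_centralizer_singleton_iff.2 (Subtype.ext (S.comm _ (Subgroup.mem_subgroupOf.1 hz) _ hx))
    have heq := Subgroup.eq_of_le_of_card_ge hle
      (by rw [card_cent_psl e (hordN hx hx1), hTq, hFq])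
    exact Subgroup.mem_subgroupOf.1 (heq.ge (Subgroup.mem_centralizer_singleton_iff.2
      (Subtype.ext hxy : (⟨y, hy⟩ : N) * x' = x' * ⟨y, hy⟩)))
  set B : Subgroup G := Subgroup.normalizer ((P : Subgroup G) : Set G) ⊓ N with hB
  have htr : ∀ x ∈ (P : Subgroup G), ∀ y ∈ (P : Subgroup G), x ≠ 1 → y ≠ 1 →
      ∃ b ∈ B, b * x * b⁻¹ = y := by
    intro x hx y hy hx1 hy1
    obtain ⟨c, hc⟩ := isConj_iff.1 (conj_of_involutions e (hordN hx hx1) (hordN hy hy1))
    haveI := hTc
    obtain ⟨n, hn, hne⟩ := Sylow.conj_eq_normalizer_conj_of_mem T (⟨x, hPN hx⟩ : N) c⁻¹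
      (Subgroup.mem_subgroupOf.2 hx) (by rw [inv_inv, hc]; exact Subgroup.mem_subgroupOf.2 hy)
    rw [inv_inv, hc] at hne
    refine ⟨(n : G)⁻¹, Subgroup.mem_inf.2 ⟨Subgroup.inv_mem _ ?_, N.inv_mem n.2⟩, ?_⟩
    · refine Subgroup.mem_normalizer_iff.2 fun g => ⟨fun hg => ?_, fun hg => ?_⟩
      · exact Subgroup.mem_subgroupOf.1 ((Subgroup.mem_normalizer_iff.1 hn ⟨g, hPN hg⟩).1
          (Subgroup.mem_subgroupOf.2 hg))
      · have hgN : g ∈ N := by
          have := N.mul_mem (N.mul_mem (N.inv_mem n.2) (hPN hg)) n.2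
          simpa [mul_assoc] using this
        exact Subgroup.mem_subgroupOf.1 ((Subgroup.mem_normalizer_iff.1 hn ⟨g, hgN⟩).2
          (Subgroup.mem_subgroupOf.2 hg))
    · rw [inv_inv]
      exact (congrArg Subtype.val hne).symm
  have hPB : (P : Subgroup G) ≤ B := le_inf Subgroup.le_normalizer hPN
  -- the centraliser of `P`
  set C := Subgroup.centralizer ((P : Subgroup G) : Set G) with hC
  have hodd : ∀ c ∈ C, ¬ 2 ∣ orderOf c → c = 1 := by
    intro c hc hco
    have hcB : ∀ t ∈ B, t * c = c * t := by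
      intro t ht
      set d := c * t * c⁻¹ * t⁻¹ with hdd
      have hdN : d ∈ N := N.mul_mem (hN.conj_mem t ht.2 c) (N.inv_mem ht.2)
      have hdC : d ∈ C := by
        have h1 : t * c⁻¹ * t⁻¹ ∈ C := (Subgroup.mem_normalizer_iff.1
          (CfsgLib.Blocks.normalizer_le_normalizer_cent (P : Subgroup G) ht.1) _).1 (inv_mem hc)
        rw [show d = c * (t * c⁻¹ * t⁻¹) by rw [hdd]; group]
        exact C.mul_mem hc h1
      have hdP := hcent hx₀ hx01 d hdN (Subgroup.mem_centralizer_iff.1 hdC x₀ hx₀).symm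
      have hcd : Commute c d := (Subgroup.mem_centralizer_iff.1 hc d hdP).symm
      have hiter : ∀ j : ℕ, c ^ j * t * (c ^ j)⁻¹ = d ^ j * t := by
        intro j
        induction j with
        | zero => simp
        | succ j ih =>
          calc c ^ (j + 1) * t * (c ^ (j + 1))⁻¹ = c * (c ^ j * t * (c ^ j)⁻¹) * c⁻¹ := by
                rw [pow_succ']; group
            _ = c * d ^ j * t * c⁻¹ := by rw [ih]; group
            _ = d ^ j * c * t * c⁻¹ := by rw [(hcd.pow_right j).eq]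
            _ = d ^ j * (c * t * c⁻¹ * t⁻¹) * t := by group
            _ = d ^ (j + 1) * t := by rw [← hdd, pow_succ]
      have h := hiter (orderOf c)
      rw [pow_orderOf_eq_one, one_mul, inv_one, mul_one] at h
      have hd1 : d ^ orderOf c = 1 := (mul_eq_right.1 h.symm)
      obtain ⟨k, hk⟩ := Nat.odd_iff.2 (Nat.two_dvd_ne_zero.1 hco)
      rw [hk, pow_succ, pow_mul, pow_two, S.sq d hdP, one_pow, one_mul, hdd, mul_inv_eq_one,
        mul_inv_eq_iff_eq_mul] at hd1
      exact hd1.symm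
    set H : Subgroup G := B ⊔ Subgroup.zpowers c with hH
    have hcH : c ∈ H := (le_sup_right : Subgroup.zpowers c ≤ H) (Subgroup.mem_zpowers c)
    have hHc : H ≤ Subgroup.centralizer ({c} : Set G) := sup_le
      (fun t ht => Subgroup.mem_centralizer_singleton_iff.2 (hcB t ht))
      (Subgroup.zpowers_le.2 (Subgroup.mem_centralizer_singleton_iff.2 rfl))
    haveI : Fintype H := Fintype.ofFinite _
    have hPH : (P : Subgroup G) ≤ H := hPB.trans le_sup_left
    have hQc : Nat.card ((P : Subgroup G).subgroupOf H) = q :=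
      Nat.card_congr (Subgroup.subgroupOfEquivOfLe hPH).toEquiv
    have hirr : IsIrrCharacter H fun h : H => (χ : G → ℂ) h := by
      refine irr_of_transitive ((P : Subgroup G).subgroupOf H) ?_ (by rw [hQc]; exact hlt) ?_
        (isCharacter_comp (isCharacter_of_irr χ.2) H.subtype) (by rw [hQc]; exact hd) ?_
      · exact fun x hx y hy => Subtype.ext
          (S.comm _ (Subgroup.mem_subgroupOf.1 hx) _ (Subgroup.mem_subgroupOf.1 hy))
      · intro x hx y hy hx1 hy1
        obtain ⟨b, hb, hbe⟩ := htr _ (Subgroup.mem_subgroupOf.1 hx) _ (Subgroup.mem_subgroupOf.1 hy)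
          (fun e => hx1 (Subtype.ext e)) (fun e => hy1 (Subtype.ext e))
        exact isConj_iff.2 ⟨⟨b, (le_sup_left : B ≤ H) hb⟩, Subtype.ext hbe⟩
      · exact fun x hx hx1 => hval _ (Subgroup.mem_subgroupOf.1 hx) fun e => hx1 (Subtype.ext e)
    have hz : (⟨c, hcH⟩ : H) ∈ Subgroup.center H := Subgroup.mem_center_iff.2 fun h =>
      Subtype.ext (Subgroup.mem_centralizer_singleton_iff.1 (hHc h.2))
    have h := central_value_mul hz ⟨_, hirr⟩ (⟨c, hcH⟩ : H)⁻¹
    simp only [mul_inv_cancel, OneMemClass.coe_one, InvMemClass.coe_inv] at h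
    rw [← irr_conjInv] at h
    have h1 : (χ : G → ℂ) 1 ≠ 0 := irr_one_ne_zero χ
    have h2 : (χ : G → ℂ) 1 * (χ : G → ℂ) 1 = (χ : G → ℂ) c * conj ((χ : G → ℂ) c) := by
      rw [div_mul_eq_mul_div, eq_div_iff h1] at h
      exact h
    have h3 : ‖(χ : G → ℂ) c‖ = ‖(χ : G → ℂ) 1‖ := by
      have h4 := congrArg norm h2
      rw [norm_mul, norm_mul, Complex.norm_conj] at h4
      nlinarith [norm_nonneg ((χ : G → ℂ) c), norm_nonneg ((χ : G → ℂ) 1)]
    have hfaith : ∀ g, (χ : G → ℂ) g = (χ : G → ℂ) 1 → g = 1 := by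
      intro g hg
      by_contra hg1
      set L := charKernel (χ : G → ℂ) (isCharacter_of_irr χ.2) with hL
      haveI hLn : L.Normal := ⟨fun g hg t => (mem_charKernel _ _).2 (by
        rw [irr_isClassFun χ, (mem_charKernel _ g).1 hg])⟩
      have hPL := S.sylow_le (N := L) fun e =>
        hg1 (Subgroup.mem_bot.1 (e ▸ (mem_charKernel _ g).2 hg))
      exact hne1 ((mem_charKernel _ x₀).1 (hPL hx₀))
    have hcz := CfsgLib.RootOnSingular.central_of_norm (isCharacter_of_irr χ.2) hfaith h3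
    by_contra hc1
    refine hPn ?_
    have hPZ := S.sylow_le (N := Subgroup.center G) fun e => hc1 (Subgroup.mem_bot.1 (e ▸ hcz))
    exact ⟨fun x hx g => by rwa [Subgroup.mem_center_iff.1 (hPZ hx) g, mul_inv_cancel_right]⟩
  have hCP : C = (P : Subgroup G) := by
    refine P.is_maximal' ?_ fun x hx => Subgroup.mem_centralizer_iff.2 fun y hy => S.comm y hy x hx
    intro g
    obtain ⟨j, o, ho, hjo⟩ := Nat.exists_eq_pow_mul_and_not_dvd (orderOf_pos g).ne' 2 (by norm_num)
    refine ⟨j, ?_⟩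
    apply Subtype.ext
    rw [Subgroup.coe_pow, OneMemClass.coe_one]
    refine hodd _ (C.pow_mem g.2 _) fun h => ho ?_
    rwa [orderOf_pow, Subgroup.orderOf_coe, hjo, Nat.gcd_mul_right_left,
      Nat.mul_div_cancel_left _ (by positivity)] at h
  have hNtop : N = ⊤ := by
    have h := S.sup_centralizer hPN
    rwa [← hC, hCP, sup_eq_left.2 hPN] at h
  subst hNtop
  let e' : G ≃* Matrix.ProjectiveSpecialLinearGroup (Fin 2) F := Subgroup.topEquiv.symm.trans e
  refine ⟨⟨F, iF, iFt, a, ha2, hcard, ⟨e'⟩⟩, ?_⟩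
  obtain ⟨s, w, hsw, hcom, hs, hw, -, -⟩ := exists_pPart Nat.prime_two u
  have hk : (q : ℂ) ≠ 0 := Nat.cast_ne_zero.2 (by omega)
  obtain ⟨g, hg⟩ := isConj_iff.1
    (isConj_part hM S.const hk ⟨w, hsw, hcom, hs, hw⟩ (S.two_elt hx₀) hx01)
  have hso : orderOf s = 2 := by
    rw [← hg, ← hord hx₀ hx01]
    exact orderOf_injective (MulAut.conj g).toMonoidHom (MulAut.conj g).injective x₀
  have hwC : w ∈ Subgroup.centralizer ({s} : Set G) :=
    Subgroup.mem_centralizer_singleton_iff.2 hcom.eq.symm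
  have hw1 : w = 1 := by
    have h := orderOf_dvd_natCard (⟨w, hwC⟩ : Subgroup.centralizer ({s} : Set G))
    rw [Subgroup.orderOf_mk, card_cent_psl e' hso, hcard] at h
    obtain ⟨i, -, hi⟩ := (Nat.dvd_prime_pow Nat.prime_two).1 h
    rcases Nat.eq_zero_or_pos i with rfl | hi0
    · exact orderOf_eq_one_iff.1 (by simpa using hi)
    · exact absurd (hi ▸ dvd_pow_self 2 hi0.ne') hw
  rw [← hsw, hw1, mul_one, ← pow_two, ← hso, pow_orderOf_eq_one]

end CfsgLib.ConstDiff
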