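import Cfsg.Agent.Lib.ConstDiff.Basic
import Cfsg.Agent.Lib.Blocks.Orth
import Cfsg.Agent.Lib.AbPrincipal.Tools
import Cfsg.Agent.Lib.HallE8.Solvable
import Cfsg.Agent.Lib.RootOnSingular.Main
import Cfsg.Agent.Lib.Blocks.SectionBound
import Mathlib.GroupTheory.FiniteAbelian.Duality

/-!
# Constant difference: one class of involutions, a character of degree `|P| - 1`
-/

namespace CfsgLib.ConstDiff

open Cfsg CfsgLib.CharTheory CfsgLib.Blocks
open scoped ComplexConjugate

set_option linter.unusedVariables false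
set_option linter.style.haveILetI false
set_option linter.unusedSectionVars false

universe u

variable {M : Ideal AlgInt} {G : Type u} [Group G] [Fintype G]

/-- What the hypothesis gives at once in a group without odd core. -/
structure Setup (M : Ideal AlgInt) (P : Sylow 2 G) (u : G) : Prop where
  isPModular : IsPModular 2 M
  core : pPrimeCore 2 G = ⊥
  const : Const M u (Nat.card (P : Subgroup G) : ℂ)
  one_lt : 1 < Nat.card (P : Subgroup G)
  sq : ∀ x ∈ (P : Subgroup G), x * x = 1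
  involConj : ∀ g h : G, (∃ k, orderOf g = 2 ^ k) → g ≠ 1 → (∃ k, orderOf h = 2 ^ k) → h ≠ 1 → IsConj g h

theorem setup_of (hM : IsPModular 2 M) (hO : pPrimeCore 2 G = ⊥) {u : G} (hu : u ≠ 1) {k : ℂ}
    (hc : Const M u k) (P : Sylow 2 G) : Setup M P u := by
  classical
  haveI : Fact (Nat.Prime 2) := ⟨Nat.prime_two⟩
  have hk : k ≠ 0 := by
    intro h0
    refine hu (Subgroup.mem_bot.1 (hO ▸ mem_core_of_kernel hM fun χ hχ => ?_))
    by_cases h1 : (χ : G → ℂ) = fun _ => 1
    · rw [h1]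
    · have := hc χ hχ h1
      rw [h0, sub_eq_zero] at this
      exact this.symm
  have heven : 2 ∣ Nat.card G := by
    by_contra h
    have : (⊤ : Subgroup G) ≤ pPrimeCore 2 G := by
      refine le_sSup ⟨inferInstance, ?_⟩
      rw [Subgroup.card_top]
      exact (Nat.prime_two.coprime_iff_not_dvd.2 h).symm
    rw [hO] at this
    exact hu (Subgroup.mem_bot.1 (this (Subgroup.mem_top u)))
  obtain ⟨t, ht⟩ := exists_prime_orderOf_dvd_card' 2 heven
  have ht2 : ∃ k, orderOf t = 2 ^ k := ⟨1, by rw [ht, pow_one]⟩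
  have ht1 : t ≠ 1 := fun e => by rw [e, orderOf_one] at ht; norm_num at ht
  have hs1 : ∀ s, IsPPart 2 u s → s ≠ 1 := fun s hs e =>
    ht1 (isConj_one_left.1 (e ▸ isConj_part hM hc hk hs ht2 ht1))
  obtain ⟨s, w, hsw, hcom, hs, hw, -, -⟩ := exists_pPart Nat.prime_two u
  have hsp : IsPPart 2 u s := ⟨w, hsw, hcom, hs, hw⟩
  have hconj : ∀ g h : G, (∃ k, orderOf g = 2 ^ k) → g ≠ 1 → (∃ k, orderOf h = 2 ^ k) → h ≠ 1 →
      IsConj g h := fun g h hg hg1 hh hh1 =>
    (isConj_part hM hc hk hsp hg hg1).trans (isConj_part hM hc hk hsp hh hh1).symm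
  have hsq : ∀ x ∈ (P : Subgroup G), x * x = 1 := by
    intro x hx
    by_cases hx1 : x = 1
    · rw [hx1, one_mul]
    obtain ⟨j, hj⟩ := IsPGroup.iff_orderOf.1 P.2 ⟨x, hx⟩
    rw [← Subgroup.orderOf_coe] at hj
    obtain ⟨c, hc'⟩ := isConj_iff.1 (hconj t x ht2 ht1 ⟨j, hj⟩ hx1)
    rw [← hc', ← pow_two, conj_pow, ← ht, pow_orderOf_eq_one, mul_one, mul_inv_cancel]
  have hab : ∀ x ∈ (P : Subgroup G), ∀ y ∈ (P : Subgroup G), x * y = y * x := by
    intro x hx y hy
    have h := inv_eq_of_mul_eq_one_right (hsq _ ((P : Subgroup G).mul_mem hx hy))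
    rw [mul_inv_rev, inv_eq_of_mul_eq_one_right (hsq x hx), inv_eq_of_mul_eq_one_right (hsq y hy)] at h
    exact h.symm
  refine ⟨hM, hO, k_eq hM hc hk P hab hs1 ▸ hc, ?_, hsq, hconj⟩
  haveI : Nontrivial (P : Subgroup G) := by
    have h : 2 ∣ Nat.card (P : Subgroup G) := P.dvd_card_of_dvd_card heven
    exact Finite.one_lt_card_iff_nontrivial.1
      (lt_of_lt_of_le one_lt_two (Nat.le_of_dvd Nat.card_pos h))
  exact Finite.one_lt_card

namespace Setup

variable {P : Sylow 2 G} {u : G} (S : Setup M P u)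

include S

theorem comm : ∀ x ∈ (P : Subgroup G), ∀ y ∈ (P : Subgroup G), x * y = y * x := by
  intro x hx y hy
  have h := inv_eq_of_mul_eq_one_right (S.sq _ ((P : Subgroup G).mul_mem hx hy))
  rw [mul_inv_rev, inv_eq_of_mul_eq_one_right (S.sq x hx), inv_eq_of_mul_eq_one_right (S.sq y hy)] at h
  exact h.symm

theorem two_elt {x : G} (hx : x ∈ (P : Subgroup G)) : ∃ k, orderOf x = 2 ^ k := by
  haveI : Fact (Nat.Prime 2) := ⟨Nat.prime_two⟩
  obtain ⟨j, hj⟩ := IsPGroup.iff_orderOf.1 P.2 ⟨x, hx⟩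
  exact ⟨j, by rw [← hj, ← Subgroup.orderOf_coe]⟩

/-- A normal subgroup with an element of the Sylow subgroup contains all of it. -/
theorem le_normal {N : Subgroup G} [N.Normal] {x : G} (hx : x ∈ (P : Subgroup G)) (hx1 : x ≠ 1)
    (hxN : x ∈ N) : (P : Subgroup G) ≤ N := by
  intro y hy
  by_cases hy1 : y = 1
  · rw [hy1]; exact N.one_mem
  obtain ⟨c, hc⟩ := isConj_iff.1 (S.involConj x y (S.two_elt hx) hx1 (S.two_elt hy) hy1)
  rw [← hc]
  exact Subgroup.Normal.conj_mem inferInstance x hxN c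

theorem sylow_le {N : Subgroup G} [N.Normal] (hN : N ≠ ⊥) : (P : Subgroup G) ≤ N := by
  haveI : Fact (Nat.Prime 2) := ⟨Nat.prime_two⟩
  have h2 : 2 ∣ Nat.card N := by
    by_contra h
    refine hN (le_bot_iff.1 (S.core ▸ le_sSup ⟨inferInstance, ?_⟩))
    exact (Nat.prime_two.coprime_iff_not_dvd.2 h).symm
  obtain ⟨⟨t, htN⟩, ht⟩ := exists_prime_orderOf_dvd_card' 2 h2
  replace ht : orderOf t = 2 := by rwa [← Subgroup.orderOf_coe] at ht
  intro y hy
  by_cases hy1 : y = 1
  · rw [hy1]; exact N.one_mem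
  obtain ⟨c, hc⟩ := isConj_iff.1 (S.involConj t y ⟨1, by rw [ht, pow_one]⟩
    (fun e => by rw [show t = 1 from e, orderOf_one] at ht; norm_num at ht) (S.two_elt hy) hy1)
  rw [← hc]
  exact Subgroup.Normal.conj_mem inferInstance t htN c

theorem res_oddSum_centralizer (χ : IrrCharacter G)
    [DecidablePred (· ∈ Subgroup.centralizer ((P : Subgroup G) : Set G))] :
    res S.isPModular (oddSum χ) = res S.isPModular
      (∑ g ∈ Finset.univ.filter (· ∈ Subgroup.centralizer ((P : Subgroup G) : Set G)),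
        regFn 2 (χ : G → ℂ) g) := by
  classical
  have hM := S.isPModular
  letI : MulAction (P : Subgroup G) G :=
    MulAction.compHom G ((MulAut.conj : G →* MulAut G).comp (P : Subgroup G).subtype)
  rw [oddSum, res_sum hM fun g _ => regFn_mem hM χ g, res_sum hM fun g _ => regFn_mem hM χ g,
    sum_fixedPoints hM P.2 (fun g => res hM (regFn 2 (χ : G → ℂ) g)) fun a g => ?_]
  · refine Finset.sum_congr (Finset.ext fun g => ?_) fun _ _ => rfl
    simp only [Finset.mem_filter, Finset.mem_univ, true_and, MulAction.mem_fixedPoints,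
      Subgroup.mem_centralizer_iff]
    constructor
    · intro h a ha
      exact mul_inv_eq_iff_eq_mul.1 (h ⟨a, ha⟩)
    · intro h a
      exact mul_inv_eq_iff_eq_mul.2 (h a a.2)
  · exact congrArg (res hM) (regFn_isClassFunction χ g a)

/-- A normal subgroup containing the Sylow subgroup covers the group with its centraliser. -/
theorem sup_centralizer {N : Subgroup G} [N.Normal] (hPN : (P : Subgroup G) ≤ N) :
    N ⊔ Subgroup.centralizer ((P : Subgroup G) : Set G) = ⊤ := by
  classical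
  haveI : Fact (Nat.Prime 2) := ⟨Nat.prime_two⟩
  have hM := S.isPModular
  haveI := res_isDomain hM
  set C := Subgroup.centralizer ((P : Subgroup G) : Set G) with hC
  set K := N ⊔ C with hK
  haveI hKn : K.Normal := by
    rw [← Subgroup.normalizer_eq_top_iff, ← top_le_iff, ← Sylow.normalizer_sup_eq_top' P hPN]
    refine sup_le (fun g hg => ?_) (le_sup_left.trans Subgroup.le_normalizer)
    have hmap : ∀ n ∈ Subgroup.normalizer ((P : Subgroup G) : Set G), ∀ x ∈ K, n * x * n⁻¹ ∈ K := by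
      intro n hn
      have : K.map (MulAut.conj n).toMonoidHom ≤ K := by
        rw [hK, Subgroup.map_sup]
        refine sup_le_sup ?_ ?_
        · rintro _ ⟨x, hx, rfl⟩
          exact Subgroup.Normal.conj_mem inferInstance x hx n
        · rintro _ ⟨x, hx, rfl⟩
          exact (Subgroup.mem_normalizer_iff.1
            (CfsgLib.Blocks.normalizer_le_normalizer_cent (P : Subgroup G) hn) x).1 hx
      intro x hx
      exact this ⟨x, hx, rfl⟩
    exact Subgroup.mem_normalizer_iff.2 fun x => ⟨hmap g hg x, fun h => by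
      have := hmap g⁻¹ (inv_mem hg) _ h
      simpa [mul_assoc] using this⟩
  by_contra hne
  have hodd : ¬ 2 ∣ Nat.card (G ⧸ K) := by
    rw [← Subgroup.index_eq_card]
    exact fun h => P.not_dvd_index (h.trans (Subgroup.index_dvd_of_le (hPN.trans le_sup_left)))
  haveI := CfsgLib.HallE8.isSolvable_of_odd hodd
  haveI : Nontrivial (G ⧸ K) := by
    rw [← Finite.one_lt_card_iff_nontrivial, ← Subgroup.index_eq_card]
    exact Subgroup.one_lt_index_of_ne_top hne
  obtain ⟨a, ha⟩ : ∃ a : Abelianization (G ⧸ K), a ≠ 1 := by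
    obtain ⟨g, -, hg⟩ := SetLike.exists_of_lt
      (Group.IsSolvable.commutator_lt_top_of_nontrivial (G := G ⧸ K))
    exact ⟨Abelianization.of g, fun e => hg ((QuotientGroup.eq_one_iff g).1 e)⟩
  haveI : NeZero (Monoid.exponent (Abelianization (G ⧸ K))) := ⟨Monoid.exponent_ne_zero_of_finite⟩
  obtain ⟨φ, hφ⟩ := CommGroup.exists_apply_ne_one_of_hasEnoughRootsOfUnity (Abelianization (G ⧸ K)) ℂ ha
  set f : G →* ℂˣ := φ.comp (Abelianization.of.comp (QuotientGroup.mk' K)) with hf
  set lam : IrrCharacter G := ⟨_, isIrrCharacter_linear f⟩ with hlam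
  have hfC : ∀ x ∈ C, f x = 1 := fun x hx => by
    simp [hf, (QuotientGroup.eq_one_iff x).2 (show x ∈ K from (le_sup_right : C ≤ K) hx)]
  have hmem : lam ∈ principalBlock M G := by
    refine mem_principal_of_sum hM lam ?_
    have h1 := S.res_oddSum_centralizer lam
    have h2 := S.res_oddSum_centralizer (oneIrr G)
    have h3 := res_oddSum hM (oneIrr_mem (G := G) hM)
    rw [h2, show ((oneIrr G : IrrCharacter G) : G → ℂ) 1 = 1 from rfl, res_one] at h3
    change res hM (oddSum lam) ≠ 0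
    rw [h1, Finset.sum_congr rfl fun g hg => show regFn 2 (lam : G → ℂ) g =
      regFn 2 ((oneIrr G : IrrCharacter G) : G → ℂ) g from ?_, h3]
    · exact one_ne_zero
    · simp only [regFn]
      split_ifs
      · rfl
      · show ((f g⁻¹ : ℂˣ) : ℂ) = 1
        rw [hfC _ (C.inv_mem (Finset.mem_filter.1 hg).2), Units.val_one]
  have hne1 : (lam : G → ℂ) ≠ fun _ => 1 := by
    intro e
    obtain ⟨g, rfl⟩ : ∃ g, Abelianization.of g = a := QuotientGroup.mk_surjective a
    obtain ⟨g', rfl⟩ := QuotientGroup.mk_surjective g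
    exact hφ (Units.ext (congrFun e g'))
  have h := S.const lam hmem hne1
  change ((f 1 : ℂˣ) : ℂ) - ((f u : ℂˣ) : ℂ) = _ at h
  rw [map_one, Units.val_one] at h
  have hpow : f u ^ Nat.card (G ⧸ K) = 1 := by
    rw [hf, MonoidHom.comp_apply, ← map_pow, MonoidHom.comp_apply, ← map_pow, pow_card_eq_one',
      map_one, map_one]
  have hnorm : ‖((f u : ℂˣ) : ℂ)‖ = 1 := Complex.norm_eq_one_of_pow_eq_one
    (n := Nat.card (G ⧸ K)) (by rw [← Units.val_pow_eq_pow_val, hpow, Units.val_one]) Nat.card_pos.ne'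
  have hv : ((f u : ℂˣ) : ℂ) = 1 - (Nat.card (P : Subgroup G) : ℂ) := by rw [← h]; ring
  have hq2 : Nat.card (P : Subgroup G) = 2 := by
    rw [hv, ← norm_neg, neg_sub, show (Nat.card (P : Subgroup G) : ℂ) - 1 =
      ((Nat.card (P : Subgroup G) - 1 : ℕ) : ℂ) by rw [Nat.cast_sub S.one_lt.le]; norm_num,
      Complex.norm_natCast] at hnorm
    have h' : Nat.card (P : Subgroup G) - 1 = 1 := by exact_mod_cast hnorm
    omega
  have hval : ((f u : ℂˣ) : ℂ) = -1 := by rw [hv, hq2]; norm_num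
  have h' : ((f u : ℂˣ) : ℂ) ^ Nat.card (G ⧸ K) = 1 := by
    rw [← Units.val_pow_eq_pow_val, hpow, Units.val_one]
  rw [hval, (Nat.odd_iff.2 (Nat.two_dvd_ne_zero.1 hodd)).neg_one_pow] at h'
  norm_num at h'

end Setup

end CfsgLib.ConstDiff
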